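import Mathlib
import Cfsg.Agent.Lib.Chev.Good
import Cfsg.Agent.Lib.Chev.TorusH
import Cfsg.Agent.Lib.NormalCover.G2

/-!
`G₂` in every characteristic: signed monomial tables of the root automorphisms of Zorn's algebra and of
fourteen derivations on which they act by the adjoint matrices of the Chevalley datum.
-/

set_option autoImplicit false
set_option maxRecDepth 100000
set_option maxHeartbeats 1000000

namespace CfsgLib.KnownC.G2Oct

open Cfsg.Lie Matrix CfsgLib.Chev CfsgLib.NormalCover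

/-- A signed monomial entry: coefficient, exponent, row, column. -/
abbrev SMono : Type := ℤ × ℕ × Fin 8 × Fin 8

/-- The root automorphism of a root, up to the parameter. -/
def yTab : ℕ → List SMono
  | 0 => [(1, 0, 0, 0), (1, 0, 1, 1), (1, 0, 2, 2), (1, 0, 3, 3), (1, 0, 4, 4), (1, 0, 5, 5), (1, 0, 6, 6), (1, 0, 7, 7), (1, 1, 3, 1), (-1, 1, 4, 6)]
  | 1 => [(1, 0, 0, 0), (1, 0, 1, 1), (1, 0, 2, 2), (1, 0, 3, 3), (1, 0, 4, 4), (1, 0, 5, 5), (1, 0, 6, 6), (1, 0, 7, 7), (1, 1, 3, 2), (-1, 1, 5, 6)]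
  | 2 => [(1, 0, 0, 0), (1, 0, 1, 1), (1, 0, 2, 2), (1, 0, 3, 3), (1, 0, 4, 4), (1, 0, 5, 5), (1, 0, 6, 6), (1, 0, 7, 7), (1, 1, 0, 6), (-1, 1, 3, 0), (1, 1, 3, 7), (1, 1, 4, 2), (-1, 1, 5, 1), (-1, 1, 7, 6), (-1, 2, 3, 6)]
  | 3 => [(1, 0, 0, 0), (1, 0, 1, 1), (1, 0, 2, 2), (1, 0, 3, 3), (1, 0, 4, 4), (1, 0, 5, 5), (1, 0, 6, 6), (1, 0, 7, 7), (-1, 1, 0, 1), (-1, 1, 2, 6), (1, 1, 3, 5), (1, 1, 4, 0), (-1, 1, 4, 7), (1, 1, 7, 1), (-1, 2, 4, 1)]
  | 4 => [(1, 0, 0, 0), (1, 0, 1, 1), (1, 0, 2, 2), (1, 0, 3, 3), (1, 0, 4, 4), (1, 0, 5, 5), (1, 0, 6, 6), (1, 0, 7, 7), (-1, 1, 0, 2), (1, 1, 1, 6), (-1, 1, 3, 4), (1, 1, 5, 0), (-1, 1, 5, 7), (1, 1, 7, 2), (-1, 2, 5, 2)]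
  | 5 => [(1, 0, 0, 0), (1, 0, 1, 1), (1, 0, 2, 2), (1, 0, 3, 3), (1, 0, 4, 4), (1, 0, 5, 5), (1, 0, 6, 6), (1, 0, 7, 7), (1, 1, 2, 1), (-1, 1, 4, 5)]
  | 6 => [(1, 0, 0, 0), (1, 0, 1, 1), (1, 0, 2, 2), (1, 0, 3, 3), (1, 0, 4, 4), (1, 0, 5, 5), (1, 0, 6, 6), (1, 0, 7, 7), (1, 1, 1, 2), (-1, 1, 5, 4)]
  | 7 => [(1, 0, 0, 0), (1, 0, 1, 1), (1, 0, 2, 2), (1, 0, 3, 3), (1, 0, 4, 4), (1, 0, 5, 5), (1, 0, 6, 6), (1, 0, 7, 7), (1, 1, 0, 5), (-1, 1, 2, 0), (1, 1, 2, 7), (-1, 1, 4, 3), (1, 1, 6, 1), (-1, 1, 7, 5), (-1, 2, 2, 5)]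
  | 8 => [(1, 0, 0, 0), (1, 0, 1, 1), (1, 0, 2, 2), (1, 0, 3, 3), (1, 0, 4, 4), (1, 0, 5, 5), (1, 0, 6, 6), (1, 0, 7, 7), (1, 1, 0, 4), (-1, 1, 1, 0), (1, 1, 1, 7), (1, 1, 5, 3), (-1, 1, 6, 2), (-1, 1, 7, 4), (-1, 2, 1, 4)]
  | 9 => [(1, 0, 0, 0), (1, 0, 1, 1), (1, 0, 2, 2), (1, 0, 3, 3), (1, 0, 4, 4), (1, 0, 5, 5), (1, 0, 6, 6), (1, 0, 7, 7), (-1, 1, 0, 3), (-1, 1, 1, 5), (1, 1, 2, 4), (1, 1, 6, 0), (-1, 1, 6, 7), (1, 1, 7, 3), (-1, 2, 6, 3)]
  | 10 => [(1, 0, 0, 0), (1, 0, 1, 1), (1, 0, 2, 2), (1, 0, 3, 3), (1, 0, 4, 4), (1, 0, 5, 5), (1, 0, 6, 6), (1, 0, 7, 7), (1, 1, 2, 3), (-1, 1, 6, 5)]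
  | 11 => [(1, 0, 0, 0), (1, 0, 1, 1), (1, 0, 2, 2), (1, 0, 3, 3), (1, 0, 4, 4), (1, 0, 5, 5), (1, 0, 6, 6), (1, 0, 7, 7), (1, 1, 1, 3), (-1, 1, 6, 4)]
  | _ => []

/-- The derivation of an index of the algebra. -/
def dTab : ℕ → List SMono
  | 0 => [(-1, 0, 1, 1), (2, 0, 2, 2), (-1, 0, 3, 3), (1, 0, 4, 4), (-2, 0, 5, 5), (1, 0, 6, 6)]
  | 1 => [(1, 0, 1, 1), (-1, 0, 2, 2), (-1, 0, 4, 4), (1, 0, 5, 5)]
  | 2 => [(1, 0, 3, 1), (-1, 0, 4, 6)]
  | 3 => [(1, 0, 3, 2), (-1, 0, 5, 6)]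
  | 4 => [(1, 0, 0, 6), (-1, 0, 3, 0), (1, 0, 3, 7), (1, 0, 4, 2), (-1, 0, 5, 1), (-1, 0, 7, 6)]
  | 5 => [(-1, 0, 0, 1), (-1, 0, 2, 6), (1, 0, 3, 5), (1, 0, 4, 0), (-1, 0, 4, 7), (1, 0, 7, 1)]
  | 6 => [(-1, 0, 0, 2), (1, 0, 1, 6), (-1, 0, 3, 4), (1, 0, 5, 0), (-1, 0, 5, 7), (1, 0, 7, 2)]
  | 7 => [(1, 0, 2, 1), (-1, 0, 4, 5)]
  | 8 => [(1, 0, 1, 2), (-1, 0, 5, 4)]
  | 9 => [(1, 0, 0, 5), (-1, 0, 2, 0), (1, 0, 2, 7), (-1, 0, 4, 3), (1, 0, 6, 1), (-1, 0, 7, 5)]
  | 10 => [(1, 0, 0, 4), (-1, 0, 1, 0), (1, 0, 1, 7), (1, 0, 5, 3), (-1, 0, 6, 2), (-1, 0, 7, 4)]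
  | 11 => [(-1, 0, 0, 3), (-1, 0, 1, 5), (1, 0, 2, 4), (1, 0, 6, 0), (-1, 0, 6, 7), (1, 0, 7, 3)]
  | 12 => [(1, 0, 2, 3), (-1, 0, 6, 5)]
  | 13 => [(1, 0, 1, 3), (-1, 0, 6, 4)]
  | _ => []

/-- The derivation attached to a coordinate. -/
def dL (c : chevG2.Idx) : List SMono := dTab (Sum.elim (fun j => j.val) (fun u => 2 + u.val) c)

/-- Products of monomial lists. -/
def mulL (a b : List SMono) : List SMono :=
  a.flatMap fun x => (b.filter fun y => x.2.2.2 == y.2.2.1).map fun y =>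
    (x.1 * y.1, x.2.1 + y.2.1, x.2.2.1, y.2.2.2)

/-- Scaling of a monomial list. -/
def scaleL (z : ℤ) (k : ℕ) (a : List SMono) : List SMono :=
  a.map fun x => (z * x.1, k + x.2.1, x.2.2)

/-- The coefficient of a key. -/
def coefAt (a : List SMono) (key : ℕ × Fin 8 × Fin 8) : ℤ :=
  ((a.filter fun x => x.2 == key).map Prod.fst).sum

/-- Equality of monomial lists as polynomial matrices. -/
def ckEq (a b : List SMono) : Bool := (a ++ b).all fun x => coefAt a x.2 == coefAt b x.2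

section Eval

variable {F : Type*} [Field F]

/-- A term. -/
def term (t : F) (key : ℕ × Fin 8 × Fin 8) : Matrix (Fin 8) (Fin 8) F :=
  t ^ key.1 • Matrix.single key.2.1 key.2.2 (1 : F)

/-- The matrix of a monomial list at a parameter. -/
def M (t : F) (a : List SMono) : Matrix (Fin 8) (Fin 8) F :=
  (a.map fun x => (x.1 : F) • term t x.2).sum

theorem M_cons (t : F) (x : SMono) (a : List SMono) : M t (x :: a) = (x.1 : F) • term t x.2 + M t a := by
  simp [M]

theorem M_nil (t : F) : M t [] = 0 := by simp [M]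

theorem M_append (t : F) (a b : List SMono) : M t (a ++ b) = M t a + M t b := by simp [M]

theorem M_scale (t : F) (z : ℤ) (k : ℕ) (a : List SMono) :
    M t (scaleL z k a) = ((z : F) * t ^ k) • M t a := by
  induction a with
  | nil => simp [scaleL, M_nil]
  | cons x a ih =>
    rw [scaleL, List.map_cons, M_cons, M_cons, smul_add]
    refine congrArg₂ _ ?_ ih
    simp only [term, smul_smul, Int.cast_mul, pow_add]
    ring_nf

theorem M_const (t s : F) {a : List SMono} (h : ∀ x ∈ a, x.2.1 = 0) : M t a = M s a := by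
  induction a with
  | nil => rw [M_nil, M_nil]
  | cons x a ih =>
    rw [M_cons, M_cons, ih fun y hy => h y (List.mem_cons_of_mem _ hy)]
    simp [term, h x List.mem_cons_self]

theorem term_mul_M (t : F) (x : SMono) (b : List SMono) :
    ((x.1 : F) • term t x.2) * M t b =
      M t ((b.filter fun y => x.2.2.2 == y.2.2.1).map fun y =>
        (x.1 * y.1, x.2.1 + y.2.1, x.2.2.1, y.2.2.2)) := by
  induction b with
  | nil => simp [M_nil]
  | cons y b ih =>
    rw [M_cons, mul_add, ih, List.filter_cons]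
    by_cases h : x.2.2.2 = y.2.2.1
    · simp [h, M_cons, term, Matrix.single_mul_single_same, smul_smul, pow_add]
      ring_nf
    · simp [h, term, Matrix.single_mul_single_of_ne, smul_smul]

theorem M_mul (t : F) (a b : List SMono) : M t (mulL a b) = M t a * M t b := by
  induction a with
  | nil => simp [mulL, M_nil]
  | cons x a ih =>
    rw [mulL, List.flatMap_cons, M_append, M_cons, add_mul, term_mul_M]
    exact congrArg _ ih

theorem M_eq_sum (t : F) (a : List SMono) {S : Finset (ℕ × Fin 8 × Fin 8)} (h : ∀ x ∈ a, x.2 ∈ S) :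
    M t a = ∑ key ∈ S, (coefAt a key : F) • term t key := by
  induction a with
  | nil => simp [M_nil, coefAt]
  | cons x a ih =>
    rw [M_cons, ih fun y hy => h y (List.mem_cons_of_mem _ hy)]
    have hsplit : ∀ key, (coefAt (x :: a) key : F) • term t key =
        (if key = x.2 then (x.1 : F) • term t key else 0) + (coefAt a key : F) • term t key := by
      intro key
      by_cases hk : key = x.2
      · simp [coefAt, List.filter_cons, hk, add_smul]
      · simp [coefAt, List.filter_cons, hk, Ne.symm hk]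
    simp only [hsplit, Finset.sum_add_distrib, Finset.sum_ite_eq', h x List.mem_cons_self, if_true]

theorem M_ckEq (t : F) {a b : List SMono} (h : ckEq a b = true) : M t a = M t b := by
  classical
  obtain ⟨S, hS⟩ : ∃ S, S = ((a ++ b).map Prod.snd).toFinset := ⟨_, rfl⟩
  rw [ckEq, List.all_eq_true] at h
  rw [M_eq_sum t a (S := S) fun x hx => hS ▸ List.mem_toFinset.2 (List.mem_map_of_mem (List.mem_append_left _ hx)),
    M_eq_sum t b (S := S) fun x hx => hS ▸ List.mem_toFinset.2 (List.mem_map_of_mem (List.mem_append_right _ hx))]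
  refine Finset.sum_congr rfl fun key hkey => ?_
  rw [hS, List.mem_toFinset, List.mem_map] at hkey
  obtain ⟨x, hx, rfl⟩ := hkey
  rw [beq_iff_eq.1 (h x hx)]

end Eval

/-- The coordinates of the algebra as a list. -/
def allIdx : List chevG2.Idx :=
  (List.finRange chevG2.rank).map Sum.inl ++ (List.finRange chevG2.nroots).map Sum.inr

/-- An entry of a coefficient of a root element. -/
noncomputable def coefK (r k : ℕ) (c b : chevG2.Idx) : ℤ :=
  if k = 0 then (if c = b then 1 else 0) else rmat chevG2 r k c b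

/-- A column of a root element. -/
noncomputable def xCol (r : ℕ) (b : chevG2.Idx) : List (ℤ × ℕ × chevG2.Idx) :=
  allIdx.flatMap fun c => ((List.range 4).map fun k => (coefK r k c b, k, c)).filter fun p => p.1 != 0

/-- The two sides of the intertwining relation. -/
noncomputable def sides (r : ℕ) (b : chevG2.Idx) : List SMono :=
  mulL ((xCol r b).flatMap fun p => scaleL p.1 p.2.1 (dL p.2.2)) (yTab r)

theorem rel_check : ∀ r : Fin 12, ∀ b : chevG2.Idx, ckEq (mulL (yTab r.val) (dL b)) (sides r.val b) = true := by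
  decide +kernel

theorem dL_const : ∀ c : chevG2.Idx, ∀ x ∈ dL c, x.2.1 = 0 := by decide +kernel

variable {F : Type*} [Field F]

/-- The linear map from the algebra to the derivations. -/
def Der (v : chevG2.Idx → F) : Matrix (Fin 8) (Fin 8) F := ∑ c, v c • M 1 (dL c)

theorem allIdx_sum {A : Type*} [AddCommMonoid A] (f : chevG2.Idx → A) : (allIdx.map f).sum = ∑ c, f c := by
  simp [allIdx, Fintype.sum_sum_type, Fin.sum_univ_def, List.map_map, Function.comp_def]

theorem sum_xCol {r : ℕ} (hr : r < chevG2.nroots) (t : F) (b : chevG2.Idx) :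
    M t ((xCol r b).flatMap fun p => scaleL p.1 p.2.1 (dL p.2.2)) = Der fun c => chevG2.x F r t c b := by
  rw [Der, ← allIdx_sum, xCol, List.flatMap_assoc]
  induction allIdx with
  | nil => simp [M_nil]
  | cons c l ih =>
    rw [List.flatMap_cons, M_append, ih, List.map_cons, List.sum_cons]
    congr 1
    rw [goodG2.x_eq_xr hr, ← M_const t 1 (dL_const c)]
    have hsum : ∀ l : List ℕ, M t (((l.map fun k => (coefK r k c b, k, c)).filter fun p => p.1 != 0).flatMap
        fun p => scaleL p.1 p.2.1 (dL p.2.2)) =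
        (l.map fun k => (coefK r k c b : F) * t ^ k).sum • M t (dL c) := by
      intro l
      induction l with
      | nil => simp [M_nil]
      | cons k l ih =>
        rw [List.map_cons, List.map_cons, List.sum_cons, add_smul, ← ih, List.filter_cons]
        by_cases hk : coefK r k c b = 0 <;> simp [hk, M_append, M_scale, List.flatMap_cons]
    rw [hsum]
    congr 1
    simp [List.range_succ, coefK, xr, amat, Matrix.one_apply, add_assoc, mul_comm]

/-- The intertwining relation of a root element. -/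
theorem root_rel {r : ℕ} (hr : r < chevG2.nroots) (t : F) (b : chevG2.Idx) :
    M t (yTab r) * M 1 (dL b) = Der (fun c => chevG2.x F r t c b) * M t (yTab r) := by
  rw [← M_const t 1 (dL_const b), ← M_mul, ← sum_xCol hr, ← M_mul]
  exact M_ckEq t (rel_check ⟨r, hr⟩ b)

theorem M_mulVec (t : F) (a : List SMono) (v : Fin 8 → F) (i : Fin 8) :
    (M t a *ᵥ v) i =
      ((a.filter fun x => x.2.2.1 == i).map fun x => (x.1 : F) * t ^ x.2.1 * v x.2.2.2).sum := by
  induction a with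
  | nil => simp [M_nil]
  | cons x a ih =>
    rw [M_cons, Matrix.add_mulVec, Pi.add_apply, ih, List.filter_cons, Matrix.smul_mulVec]
    by_cases h : x.2.2.1 = i
    · subst h; simp [term, Matrix.smul_mulVec, Matrix.single_mulVec, mul_assoc]
    · simp [h, term, Matrix.smul_mulVec, Matrix.single_mulVec, Ne.symm h]

theorem M_entry (t : F) (a : List SMono) (i j : Fin 8) :
    M t a i j = ((a.filter fun x => x.2.2.1 == i && x.2.2.2 == j).map fun x => (x.1 : F) * t ^ x.2.1).sum := by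
  induction a with
  | nil => simp [M_nil]
  | cons x a ih =>
    rw [M_cons, Matrix.add_apply, ih, Matrix.smul_apply, List.filter_cons]
    by_cases h : x.2.2.1 = i ∧ x.2.2.2 = j
    · simp [h, term]
    · rw [if_neg (by simpa using h)]
      simp [term, Matrix.single_apply, h]

/-- Every root element of the datum preserves the product of Zorn's algebra. -/
theorem root_g2 (r : Fin 12) (t : F) :
    ∃ g ∈ Cfsg.Lie.G2 F, ((g : GL (Fin 8) F) : Matrix (Fin 8) (Fin 8) F) = M t (yTab r.val) := by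
  have key : ∀ f : (Fin 8 → F) →ₗ[F] Fin 8 → F, Function.Injective f →
      (∀ x y, f (zornMul x y) = zornMul (f x) (f y)) → (∀ x i, (M t (yTab r.val) *ᵥ x) i = f x i) →
      ∃ g ∈ Cfsg.Lie.G2 F, ((g : GL (Fin 8) F) : Matrix (Fin 8) (Fin 8) F) = M t (yTab r.val) := by
    intro f hi hm he
    obtain ⟨g, hg, hgx⟩ := exists_g2 f hi hm
    exact ⟨g, hg, Matrix.ext_iff_mulVec.2 fun x => by rw [hgx]; exact (funext (he x)).symm⟩
  have long : ∀ (i j : Fin 3), i ≠ j → (∀ x k, (M t (yTab r.val) *ᵥ x) k = moveS (1 + single i j t) x k) →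
      ∃ g ∈ Cfsg.Lie.G2 F, ((g : GL (Fin 8) F) : Matrix (Fin 8) (Fin 8) F) = M t (yTab r.val) := by
    intro i j hij he
    have hd : (1 + single i j t : Matrix (Fin 3) (Fin 3) F).det = 1 := Matrix.det_transvection_of_ne i j hij t
    exact key _ (moveS_injective hd) (moveS_mul hd) he
  fin_cases r
  · exact long 2 0 (by decide) fun x k => by
      fin_cases k <;> simp [M_mulVec, yTab, moveS, Matrix.single_apply, Matrix.one_apply] <;> ring
  · exact long 2 1 (by decide) fun x k => by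
      fin_cases k <;> simp [M_mulVec, yTab, moveS, Matrix.single_apply, Matrix.one_apply] <;> ring
  · exact key (moveA ![0, 0, t]) (moveA_injective _) (moveA_mul _) fun x k => by
      fin_cases k <;> simp [M_mulVec, yTab, moveA] <;> ring
  · exact key (moveB ![-t, 0, 0]) (moveB_injective _) (moveB_mul _) fun x k => by
      fin_cases k <;> simp [M_mulVec, yTab, moveB] <;> ring
  · exact key (moveB ![0, -t, 0]) (moveB_injective _) (moveB_mul _) fun x k => by
      fin_cases k <;> simp [M_mulVec, yTab, moveB] <;> ring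
  · exact long 1 0 (by decide) fun x k => by
      fin_cases k <;> simp [M_mulVec, yTab, moveS, Matrix.single_apply, Matrix.one_apply] <;> ring
  · exact long 0 1 (by decide) fun x k => by
      fin_cases k <;> simp [M_mulVec, yTab, moveS, Matrix.single_apply, Matrix.one_apply] <;> ring
  · exact key (moveA ![0, t, 0]) (moveA_injective _) (moveA_mul _) fun x k => by
      fin_cases k <;> simp [M_mulVec, yTab, moveA] <;> ring
  · exact key (moveA ![t, 0, 0]) (moveA_injective _) (moveA_mul _) fun x k => by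
      fin_cases k <;> simp [M_mulVec, yTab, moveA] <;> ring
  · exact key (moveB ![0, 0, -t]) (moveB_injective _) (moveB_mul _) fun x k => by
      fin_cases k <;> simp [M_mulVec, yTab, moveB] <;> ring
  · exact long 1 2 (by decide) fun x k => by
      fin_cases k <;> simp [M_mulVec, yTab, moveS, Matrix.single_apply, Matrix.one_apply] <;> ring
  · exact long 0 2 (by decide) fun x k => by
      fin_cases k <;> simp [M_mulVec, yTab, moveS, Matrix.single_apply, Matrix.one_apply] <;> ring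

theorem Der_single (c : chevG2.Idx) : (Der (Pi.single c 1) : Matrix (Fin 8) (Fin 8) F) = M 1 (dL c) := by
  classical
  simp [Der, Pi.single_apply]

theorem Der_mulVec (X : Matrix chevG2.Idx chevG2.Idx F) (v : chevG2.Idx → F) :
    Der (X *ᵥ v) = ∑ b, v b • Der fun c => X c b := by
  simp only [Der, Finset.smul_sum, smul_smul, Matrix.mulVec, dotProduct, Finset.sum_smul]
  rw [Finset.sum_comm]
  exact Finset.sum_congr rfl fun b _ => Finset.sum_congr rfl fun c _ => by rw [mul_comm]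

/-- Entries whose signed sum sees exactly one derivation. -/
def pick (c : chevG2.Idx) : List (ℤ × Fin 8 × Fin 8) :=
  ([[(-1, 3, 3)], [(1, 1, 1), (-1, 3, 3)], [(1, 3, 1)], [(1, 3, 2)], [(1, 0, 6)], [(-1, 0, 1)], [(-1, 0, 2)],
    [(1, 2, 1)], [(1, 1, 2)], [(1, 0, 5)], [(1, 0, 4)], [(-1, 0, 3)], [(1, 2, 3)], [(1, 1, 3)]] :
      List (List (ℤ × Fin 8 × Fin 8))).getD (Sum.elim (fun j => j.val) (fun u => 2 + u.val) c) []

/-- The value of a pick on a derivation, over the integers. -/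
def pickVal (c d : chevG2.Idx) : ℤ :=
  ((pick c).map fun p => p.1 *
    (((dL d).filter fun x => x.2.2.1 == p.2.1 && x.2.2.2 == p.2.2).map fun x => x.1).sum).sum

theorem pick_check : ∀ c d : chevG2.Idx, pickVal c d = if c = d then 1 else 0 := by decide +kernel

theorem Der_injective : Function.Injective (Der : (chevG2.Idx → F) → Matrix (Fin 8) (Fin 8) F) := by
  classical
  have hentry : ∀ (d : chevG2.Idx) (i j : Fin 8), M (1 : F) (dL d) i j =
      ((((dL d).filter fun x => x.2.2.1 == i && x.2.2.2 == j).map fun x => x.1).sum : ℤ) := by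
    intro d i j
    rw [M_entry]
    induction (dL d).filter fun x => x.2.2.1 == i && x.2.2.2 == j with
    | nil => simp
    | cons x l ih => simp [ih, Function.comp_def]
  have h : ∀ (v : chevG2.Idx → F) (c : chevG2.Idx),
      ((pick c).map fun p => (p.1 : F) * Der v p.2.1 p.2.2).sum = v c := by
    intro v c
    have h1 : ∀ d, ((pick c).map fun p => (p.1 : F) * M (1 : F) (dL d) p.2.1 p.2.2).sum =
        if c = d then 1 else 0 := by
      intro d
      have h2 : ((pickVal c d : ℤ) : F) = if c = d then 1 else 0 := by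
        rw [pick_check]; split_ifs <;> simp
      rw [← h2, pickVal]
      induction pick c with
      | nil => simp
      | cons p l ih => simp only [List.map_cons, List.sum_cons, Int.cast_add, Int.cast_mul, ← ih, hentry]
    have h3 : ∀ l : List (ℤ × Fin 8 × Fin 8), (l.map fun p => (p.1 : F) * Der v p.2.1 p.2.2).sum =
        ∑ d, v d * (l.map fun p => (p.1 : F) * M (1 : F) (dL d) p.2.1 p.2.2).sum := by
      intro l
      induction l with
      | nil => simp
      | cons p l ih =>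
        rw [List.map_cons, List.sum_cons, ih]
        simp only [List.map_cons, List.sum_cons, mul_add, Finset.sum_add_distrib, Der, Matrix.sum_apply,
          Matrix.smul_apply, smul_eq_mul, Finset.mul_sum]
        refine congrArg₂ _ (Finset.sum_congr rfl fun d _ => ?_) rfl
        ring
    rw [h3]
    simp [h1]
  intro v w hvw
  funext c
  rw [← h v c, ← h w c, hvw]

/-- Pairs of an automorphism of the algebra of determinant one and the map it induces on the derivations. -/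
def pairSub : Subgroup (GL chevG2.Idx F × GL (Fin 8) F) where
  carrier := {p | p.2 ∈ Cfsg.Lie.G2 F ∧ (p.2 : Matrix (Fin 8) (Fin 8) F).det = 1 ∧
    ∀ v, (p.2 : Matrix (Fin 8) (Fin 8) F) * Der v =
      Der ((p.1 : Matrix chevG2.Idx chevG2.Idx F) *ᵥ v) * (p.2 : Matrix (Fin 8) (Fin 8) F)}
  mul_mem' := by
    rintro ⟨X, g⟩ ⟨Y, h⟩ ⟨hg, hd, hX⟩ ⟨hh, hd', hY⟩
    simp only [Prod.mk_mul_mk] at hX hY ⊢
    refine ⟨mul_mem hg hh, ?_, fun v => ?_⟩
    · rw [Units.val_mul, det_mul, hd, hd', one_mul]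
    · simp only [Units.val_mul]
      rw [mul_assoc, hY, ← mul_assoc, hX, mul_assoc, mulVec_mulVec]
  one_mem' := ⟨one_mem _, by simp, fun v => by simp⟩
  inv_mem' := by
    rintro ⟨X, g⟩ ⟨hg, hd, hX⟩
    simp only [Prod.inv_mk] at hX ⊢
    refine ⟨inv_mem hg, ?_, fun v => ?_⟩
    · have h1 : ((g⁻¹ : GL (Fin 8) F) : Matrix (Fin 8) (Fin 8) F).det * (g : Matrix (Fin 8) (Fin 8) F).det = 1 := by
        rw [← det_mul, ← Units.val_mul, inv_mul_cancel, Units.val_one, det_one]
      rwa [hd, mul_one] at h1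
    have h := hX (((X⁻¹ : GL chevG2.Idx F) : Matrix chevG2.Idx chevG2.Idx F) *ᵥ v)
    rw [mulVec_mulVec, ← Units.val_mul, mul_inv_cancel, Units.val_one, one_mulVec] at h
    calc _ = ((g⁻¹ : GL (Fin 8) F) : Matrix (Fin 8) (Fin 8) F) * (Der v * (g : Matrix (Fin 8) (Fin 8) F)) *
          ((g⁻¹ : GL (Fin 8) F) : Matrix (Fin 8) (Fin 8) F) := by
            simp [mul_assoc]
      _ = _ := by rw [← h]; simp [← mul_assoc]

/-- The Gram matrix of the polar form of the norm. -/
def gram : Matrix (Fin 8) (Fin 8) F :=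
  !![0, 0, 0, 0, 0, 0, 0, 1; 0, 0, 0, 0, -1, 0, 0, 0; 0, 0, 0, 0, 0, -1, 0, 0; 0, 0, 0, 0, 0, 0, -1, 0;
     0, -1, 0, 0, 0, 0, 0, 0; 0, 0, -1, 0, 0, 0, 0, 0; 0, 0, 0, -1, 0, 0, 0, 0; 1, 0, 0, 0, 0, 0, 0, 0]

theorem zPol_eq (x y : Fin 8 → F) : zPol x y = x ⬝ᵥ gram *ᵥ y := by
  simp [zPol, gram, dotProduct, Matrix.mulVec, Fin.sum_univ_eight]; ring

theorem gram_mul_self : (gram : Matrix (Fin 8) (Fin 8) F) * gram = 1 := by
  ext i j
  fin_cases i <;> fin_cases j <;> simp [gram, Matrix.mul_apply, Fin.sum_univ_eight]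

theorem g2_gram {g : GL (Fin 8) F} (hg : g ∈ Cfsg.Lie.G2 F) :
    (g : Matrix (Fin 8) (Fin 8) F)ᵀ * gram * (g : Matrix (Fin 8) (Fin 8) F) = gram := by
  ext i j
  have h := g2_pol hg (Pi.single i 1) (Pi.single j 1)
  rw [zPol_eq, zPol_eq, mulVec_mulVec, dotProduct_mulVec, Matrix.vecMul_mulVec] at h
  simpa [Matrix.mul_assoc] using h

theorem g2_det_sq {g : GL (Fin 8) F} (hg : g ∈ Cfsg.Lie.G2 F) :
    (g : Matrix (Fin 8) (Fin 8) F).det * (g : Matrix (Fin 8) (Fin 8) F).det = 1 := by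
  have h := congrArg Matrix.det (g2_gram hg)
  rw [det_mul, det_mul, det_transpose] at h
  have h0 : (gram : Matrix (Fin 8) (Fin 8) F).det ≠ 0 := fun h0 => by
    have := congrArg Matrix.det (gram_mul_self (F := F))
    rw [det_mul, h0, zero_mul, det_one] at this
    exact zero_ne_one this
  exact mul_right_cancel₀ h0 (by linear_combination h)

theorem root_half (h2 : (2 : F) ≠ 0) (r : Fin 12) (t : F) :
    M (t / 2) (yTab r.val) * M (t / 2) (yTab r.val) = M t (yTab r.val) := by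
  have h : t / 2 + t / 2 = t := by field_simp; ring
  obtain ⟨u, hu⟩ : ∃ u, u = t / 2 := ⟨_, rfl⟩
  rw [← hu] at h ⊢
  subst h
  refine Matrix.ext_iff_mulVec.2 fun x => funext fun i => ?_
  rw [← mulVec_mulVec]
  fin_cases r <;> fin_cases i <;> simp [M_mulVec, yTab] <;> ring

theorem mem_pairSub_root (h2 : (2 : F) ≠ 0) {r : ℕ} (hr : r < chevG2.nroots) (t : F) :
    ∃ g : GL (Fin 8) F, (goodG2.xG r t, g) ∈ pairSub := by
  obtain ⟨g, hg, hM⟩ := root_g2 ⟨r, hr⟩ t
  obtain ⟨g', hg', hM'⟩ := root_g2 ⟨r, hr⟩ (t / 2)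
  refine ⟨g, hg, ?_, fun v => ?_⟩
  · rw [hM, ← root_half h2 ⟨r, hr⟩ t, det_mul, ← hM']
    exact g2_det_sq hg'
  show (g : Matrix (Fin 8) (Fin 8) F) * Der v = _
  rw [Der_mulVec, Der, Finset.mul_sum, Finset.sum_mul]
  refine Finset.sum_congr rfl fun b _ => ?_
  rw [hM, Matrix.mul_smul, Matrix.smul_mul, root_rel hr, goodG2.coe_xG]

/-- In odd characteristic every element of the adjoint group is accompanied by an automorphism of
Zorn's algebra of determinant one whose exponents it inherits. -/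
theorem exists_oct (h2 : (2 : F) ≠ 0) {X : GL chevG2.Idx F} (hX : X ∈ chevG2.group F) :
    ∃ g ∈ Cfsg.Lie.G2 F, (g : Matrix (Fin 8) (Fin 8) F).det = 1 ∧ ∀ n : ℕ, g ^ n = 1 → X ^ n = 1 := by
  have h : chevG2.group F ≤ (pairSub (F := F)).map (MonoidHom.fst _ _) := by
    refine goodG2.group_le fun r hr t => ?_
    obtain ⟨g, hg⟩ := mem_pairSub_root h2 hr t
    exact ⟨_, hg, rfl⟩
  obtain ⟨⟨Y, g⟩, hg, rfl⟩ := h hX
  refine ⟨g, hg.1, hg.2.1, fun n hn => ?_⟩
  have h1 := (pow_mem hg n : (Y, g) ^ n ∈ pairSub).2.2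
  rw [Prod.pow_mk, hn] at h1
  simp only [Units.val_one, one_mul, mul_one] at h1
  refine Units.ext (Matrix.ext_iff_mulVec.2 fun v => ?_)
  rw [Units.val_one, one_mulVec]
  exact (Der_injective (h1 v)).symm

end CfsgLib.KnownC.G2Oct
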