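import Mathlib
import Cfsg.Agent.Lib.NormalCover.G2Stab
import Cfsg.Agent.Lib.NormalCover.G2

/-!
In every characteristic the idempotents of trace one of Zorn's algebra form one orbit, and the negated
exchange of the two halves is an automorphism.
-/

set_option autoImplicit false
set_option maxHeartbeats 1000000

namespace CfsgLib.KnownC.G2Oct

open Matrix Cfsg.Lie CfsgLib.NormalCover

variable {L : Type*} [Field L]

/-- The negated exchange of the two halves. -/
def moveN : (Fin 8 → L) →ₗ[L] Fin 8 → L where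
  toFun x := ![x 7, -x 4, -x 5, -x 6, -x 1, -x 2, -x 3, x 0]
  map_add' x y := by funext i; fin_cases i <;> simp <;> ring
  map_smul' c x := by funext i; fin_cases i <;> simp

theorem moveN_mul (x y : Fin 8 → L) : moveN (zornMul x y) = zornMul (moveN x) (moveN y) := by
  funext i
  fin_cases i <;> simp [moveN, zornMul, dot3, cross3] <;> ring

theorem moveN_invol (x : Fin 8 → L) : moveN (moveN x) = x := by
  funext i; fin_cases i <;> simp [moveN]

theorem exists_swapN :
    ∃ s ∈ Cfsg.Lie.G2 L, ∀ x, ((s : GL (Fin 8) L) : Matrix (Fin 8) (Fin 8) L) *ᵥ x = moveN x :=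
  exists_g2 _ (Function.LeftInverse.injective moveN_invol) moveN_mul

theorem moveN_moveS {A : Matrix (Fin 3) (Fin 3) L} (hA : A.det = 1) (x : Fin 8 → L) :
    moveN (moveS A (moveN x)) = moveS (adjT A) x := by
  rw [det_fin_three] at hA
  funext i
  fin_cases i <;> simp [moveN, moveS, adjT, adjugate_fin_three]
  all_goals first
    | ring1
    | linear_combination -(A 0 0 * x 4 + A 0 1 * x 5 + A 0 2 * x 6) * hA
    | linear_combination -(A 1 0 * x 4 + A 1 1 * x 5 + A 1 2 * x 6) * hA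
    | linear_combination -(A 2 0 * x 4 + A 2 1 * x 5 + A 2 2 * x 6) * hA

/-- Elements of trace one and norm zero lie in one orbit. -/
theorem sameOrbit_idem {w : Fin 8 → L} (hT : w 0 + w 7 = 1)
    (hN : w 0 * w 7 - (w 1 * w 4 + w 2 * w 5 + w 3 * w 6) = 0) : SameOrbit w (stdElt 0) := by
  classical
  suffices h : ∀ w : Fin 8 → L, w 0 = 1 → w 7 = 0 → (w 1 * w 4 + w 2 * w 5 + w 3 * w 6) = 0 →
      (w 1 ≠ 0 ∨ w 2 ≠ 0 ∨ w 3 ≠ 0) → SameOrbit w (stdElt 0) by
    have step2 : ∀ w : Fin 8 → L, w 0 + w 7 = 1 →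
        w 0 * w 7 - (w 1 * w 4 + w 2 * w 5 + w 3 * w 6) = 0 →
        (w 1 ≠ 0 ∨ w 2 ≠ 0 ∨ w 3 ≠ 0) → SameOrbit w (stdElt 0) := by
      intro w hT hN ha
      by_cases h0 : w 0 = 1
      · refine h w h0 (by linear_combination hT - h0) ?_ ha
        linear_combination -hN + (w 7) * h0 + (hT - h0)
      obtain ⟨v, hv⟩ : ∃ v : Fin 3 → L, v 0 * w 1 + v 1 * w 2 + v 2 * w 3 = 1 - w 0 := by
        rcases ha with ha | ha | ha
        · exact ⟨![(1 - w 0) / w 1, 0, 0], by simp [ha]⟩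
        · exact ⟨![0, (1 - w 0) / w 2, 0], by simp [ha]⟩
        · exact ⟨![0, 0, (1 - w 0) / w 3], by simp [ha]⟩
      obtain ⟨g, hg, hgw⟩ := sameOrbit_B v w
      refine SameOrbit.trans ⟨g, hg, hgw⟩ (h _ ?_ ?_ ?_ ?_)
      · show w 0 + (v 0 * w 1 + v 1 * w 2 + v 2 * w 3) = 1
        linear_combination hv
      · show w 7 - (v 0 * w 1 + v 1 * w 2 + v 2 * w 3) = 0
        linear_combination hT - hv
      · have hnm := (g2_tr_nm hg w).2
        rw [hgw] at hnm
        have e0 : moveB v w 0 = 1 := by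
          show w 0 + (v 0 * w 1 + v 1 * w 2 + v 2 * w 3) = 1
          linear_combination hv
        have e7 : moveB v w 7 = 0 := by
          show w 7 - (v 0 * w 1 + v 1 * w 2 + v 2 * w 3) = 0
          linear_combination hT - hv
        simp only [zNm] at hnm
        rw [hN] at hnm
        linear_combination -hnm + (moveB v w 0) * e7
      · by_contra hc
        push Not at hc
        simp [moveB] at hc
        refine h0 ?_
        linear_combination hv - v 0 * hc.1 - v 1 * hc.2.1 - v 2 * hc.2.2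
    by_cases ha : w 1 ≠ 0 ∨ w 2 ≠ 0 ∨ w 3 ≠ 0
    · exact step2 w hT hN ha
    push Not at ha
    obtain ⟨u, hub, hu⟩ : ∃ u : Fin 3 → L, u 0 * w 4 + u 1 * w 5 + u 2 * w 6 = 0 ∧ u ≠ 0 := by
      by_cases h4 : w 4 = 0
      · exact ⟨![1, 0, 0], by simp [h4], fun h => by simpa using congrFun h 0⟩
      · exact ⟨![w 5, -w 4, 0], by simp; ring, fun h => h4 (by simpa using congrFun h 1)⟩
    have h07 : w 0 * w 7 = 0 := by
      linear_combination hN + (w 4) * ha.1 + (w 5) * ha.2.1 + (w 6) * ha.2.2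
    have h71 : w 7 - w 0 ≠ 0 := fun h => by
      have e : w 0 * w 0 = 0 := by linear_combination h07 - w 0 * h
      have e0 := mul_self_eq_zero.1 e
      exact one_ne_zero (α := L) (by linear_combination -hT + h + 2 * e0)
    refine (sameOrbit_A u w).trans (step2 _ ?_ ?_ ?_)
    · simp [moveA]; linear_combination hT
    · simp [moveA, ha.1, ha.2.1, ha.2.2, hub]
      linear_combination h07 + (w 0 - w 7) * hub
    · by_contra hc
      push Not at hc
      simp [moveA, ha.1, ha.2.1, ha.2.2, hub, h71] at hc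
      refine hu (funext fun i => ?_)
      fin_cases i
      · exact hc.1
      · exact hc.2.1
      · exact hc.2.2
  intro w h0 h7 hN ha
  obtain ⟨A, hA, hAa⟩ : ∃ A : Matrix (Fin 3) (Fin 3) L, A.det = 1 ∧
      A *ᵥ ![w 1, w 2, w 3] = ![1, 0, 0] := by
    by_cases h1 : w 1 = 0
    · by_cases h2' : w 2 = 0
      · have h3 : w 3 ≠ 0 := by tauto
        exact ⟨!![0, 0, (w 3)⁻¹; w 3, 0, 0; 0, 1, 0], by simp [det_fin_three, h3],
          by funext i; fin_cases i <;> simp [mulVec, vec3_dotProduct, h1, h2', h3]⟩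
      · exact ⟨!![0, (w 2)⁻¹, 0; -(w 2), 0, 0; 0, -(w 3) / (w 2), 1], by simp [det_fin_three, h2'],
          by funext i; fin_cases i <;> simp [mulVec, vec3_dotProduct, h1, h2']⟩
    · exact ⟨!![(w 1)⁻¹, 0, 0; -(w 2), w 1, 0; -(w 3) / w 1, 0, 1], by simp [det_fin_three, h1],
        by funext i; fin_cases i <;> simp [mulVec, vec3_dotProduct, h1] <;> field_simp <;> ring⟩
  obtain ⟨g, hg, hgw⟩ := sameOrbit_S hA w
  refine SameOrbit.trans ⟨g, hg, hgw⟩ ?_
  have hnm := (g2_tr_nm hg w).2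
  rw [hgw] at hnm
  obtain ⟨z, hz⟩ : ∃ z : Fin 8 → L, z = moveS A w := ⟨_, rfl⟩
  rw [← hz] at hnm ⊢
  have z0 : z 0 = 1 := by rw [hz]; simpa [moveS] using h0
  have z7 : z 7 = 0 := by rw [hz]; simpa [moveS] using h7
  have e0 : A 0 0 * w 1 + A 0 1 * w 2 + A 0 2 * w 3 = 1 := by
    simpa [mulVec, dotProduct, Fin.sum_univ_three] using congrFun hAa 0
  have e1 : A 1 0 * w 1 + A 1 1 * w 2 + A 1 2 * w 3 = 0 := by
    simpa [mulVec, dotProduct, Fin.sum_univ_three] using congrFun hAa 1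
  have e2 : A 2 0 * w 1 + A 2 1 * w 2 + A 2 2 * w 3 = 0 := by
    simpa [mulVec, dotProduct, Fin.sum_univ_three] using congrFun hAa 2
  have z1 : z 1 = 1 := by rw [hz]; simpa [moveS] using e0
  have z2 : z 2 = 0 := by rw [hz]; simpa [moveS] using e1
  have z3 : z 3 = 0 := by rw [hz]; simpa [moveS] using e2
  have z4 : z 4 = 0 := by
    simp only [zNm, z0, z7, z1, z2, z3] at hnm
    linear_combination -hnm - h0 * w 7 - h7 + hN
  let v : Fin 3 → L := ![0, z 5, z 6]
  refine (sameOrbit_B v z).trans ?_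
  convert SameOrbit.refl (stdElt (0 : L)) using 1
  funext i
  fin_cases i <;> simp [moveB, v, stdElt, z0, z1, z2, z3, z4, z7] <;> ring

/-- An idempotent of trace one and norm zero is conjugate to the diagonal one. -/
theorem exists_to_diag {u : Fin 8 → L} (hT : u 0 + u 7 = 1)
    (hN : u 0 * u 7 - (u 1 * u 4 + u 2 * u 5 + u 3 * u 6) = 0) :
    ∃ x ∈ Cfsg.Lie.G2 L, ((x : GL (Fin 8) L) : Matrix (Fin 8) (Fin 8) L) *ᵥ u = eZero := by
  obtain ⟨x, hx, hxu⟩ := sameOrbit_idem hT hN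
  obtain ⟨y, hy, hye⟩ := sameOrbit_idem (w := (eZero : Fin 8 → L)) (by simp [eZero]) (by simp [eZero])
  refine ⟨y⁻¹ * x, mul_mem (inv_mem hy) hx, ?_⟩
  rw [Units.val_mul, ← mulVec_mulVec, hxu, ← hye, gm_inv]

end CfsgLib.KnownC.G2Oct
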