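import Mathlib
import Cfsg.Agent.Lib.NormalCover.G2Spectrum
import Cfsg.Agent.Lib.KnownC.G2Oct.Idem

/-!
Exponents of the automorphisms of Zorn's algebra over a finite field of odd order: the elements fixing an
anisotropic vector of trace zero.
-/

set_option autoImplicit false
set_option maxHeartbeats 1000000

namespace CfsgLib.KnownC.G2Oct

open Matrix Cfsg.Lie Polynomial CfsgLib.NormalCover

section Cubic

variable {L : Type*} [Field L] {p : ℕ}

/-- Roots killed by `N` give the exponent `p * N` in characteristic `p ≥ 3`. -/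
theorem pow_char_mul [CharP L p] (hp : p.Prime) (hp3 : 3 ≤ p) {A : Matrix (Fin 3) (Fin 3) L} {a b c : L}
    {N : ℕ} (hA : aeval A ((X - C a) * (X - C b) * (X - C c)) = 0)
    (ha : a ^ N = 1) (hb : b ^ N = 1) (hc : c ^ N = 1) : A ^ (p * N) = 1 := by
  haveI : Fact p.Prime := ⟨hp⟩
  have hd : ∀ r : L, r ^ N = 1 → (X - C r) ∣ (X ^ N - 1 : L[X]) := fun r hr =>
    dvd_iff_isRoot.2 (by simp [IsRoot.def, hr])
  refine pow_eq_one_of_dvd hA ?_
  refine (mul_dvd_mul (mul_dvd_mul (hd a ha) (hd b hb)) (hd c hc)).trans ?_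
  rw [← pow_two, ← pow_succ, mul_comm p N, pow_mul]
  refine (pow_dvd_pow _ (show 2 + 1 ≤ p from hp3)).trans (dvd_of_eq ?_)
  rw [sub_pow_char, one_pow]

/-- Exponents of a matrix whose roots are permuted by a map. -/
theorem roots_perm_cases [CharP L p] (hp : p.Prime) (hp3 : 3 ≤ p) {A : Matrix (Fin 3) (Fin 3) L} {a b c : L}
    (hA : aeval A ((X - C a) * (X - C b) * (X - C c)) = 0) (habc : a * b * c = 1)
    {φ : L → L} (hφ : Function.Injective φ) (hR : (φ a ::ₘ φ b ::ₘ φ c ::ₘ 0) = (a ::ₘ b ::ₘ c ::ₘ 0))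
    {N₁ N₂ N₃ : ℕ} (h1 : 0 < N₁) (h2' : 0 < N₂) (h3 : 0 < N₃)
    (hfix : ∀ x, x ≠ 0 → φ x = x → x ^ N₁ = 1) (hsq : ∀ x, x ≠ 0 → φ (φ x) = x → x ^ N₂ = 1)
    (hcyc : ∀ x, x ≠ 0 → x * φ x * φ (φ x) = 1 → x ^ N₃ = 1) :
    A ^ N₂ = 1 ∨ A ^ N₃ = 1 ∨ A ^ (p * N₁) = 1 := by
  classical
  have ha0 : a ≠ 0 := by rintro rfl; simp at habc
  have hb0 : b ≠ 0 := by rintro rfl; simp at habc
  have hc0 : c ≠ 0 := by rintro rfl; simp at habc
  have hdouble : ∀ a c : L, aeval A ((X - C a) * (X - C a) * (X - C c)) = 0 → a * a * c = 1 →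
      (φ a ::ₘ φ a ::ₘ φ c ::ₘ 0) = (a ::ₘ a ::ₘ c ::ₘ 0) →
      A ^ N₂ = 1 ∨ A ^ N₃ = 1 ∨ A ^ (p * N₁) = 1 := by
    intro a c hA haac hR
    have ha0 : a ≠ 0 := by rintro rfl; simp at haac
    have hc0 : c ≠ 0 := by rintro rfl; simp at haac
    by_cases hac : a = c
    · subst hac
      have hφa : φ a = a := by
        have : φ a ∈ (a ::ₘ a ::ₘ a ::ₘ 0) := hR ▸ by simp
        simpa using this
      exact Or.inr (Or.inr (pow_char_mul hp hp3 hA (hfix a ha0 hφa) (hfix a ha0 hφa) (hfix a ha0 hφa)))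
    have hcnt := congrArg (Multiset.count (φ a)) hR
    simp only [Multiset.count_cons, Multiset.count_zero, if_true] at hcnt
    have hφa : φ a = a := by
      by_contra hne
      simp [hne] at hcnt
      split_ifs at hcnt <;> first | omega | exact hac (hφ (by assumption)) | exact hne (by assumption)
    have hφc : φ c = c := by
      have : φ c ∈ (a ::ₘ a ::ₘ c ::ₘ 0) := hR ▸ by simp
      simp at this
      exact this.resolve_left fun h => hac (hφ (hφa.trans h.symm))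
    exact Or.inr (Or.inr (pow_char_mul hp hp3 hA (hfix a ha0 hφa) (hfix a ha0 hφa) (hfix c hc0 hφc)))
  by_cases hab : a = b
  · subst hab; exact hdouble a c hA habc hR
  by_cases hbc : b = c
  · subst hbc
    refine hdouble b a ?_ (by linear_combination habc) ?_
    · rwa [show (X - C b) * (X - C b) * (X - C a) = (X - C a) * (X - C b) * (X - C b) by ring]
    · rwa [Multiset.cons_swap (φ b) (φ a) 0, Multiset.cons_swap (φ b) (φ a), Multiset.cons_swap b a 0,
        Multiset.cons_swap b a]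
  by_cases hca : c = a
  · subst hca
    refine hdouble c b ?_ (by linear_combination habc) ?_
    · rwa [show (X - C c) * (X - C c) * (X - C b) = (X - C c) * (X - C b) * (X - C c) by ring]
    · simp only [← Multiset.singleton_add] at hR ⊢
      simpa [add_comm, add_left_comm] using hR
  have mem : ∀ x, (x = a ∨ x = b ∨ x = c) → (φ x = a ∨ φ x = b ∨ φ x = c) := by
    intro x hx
    have : φ x ∈ (a ::ₘ b ::ₘ c ::ₘ 0) := hR ▸ by rcases hx with rfl | rfl | rfl <;> simp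
    simpa using this
  have key : (∀ x, (x = a ∨ x = b ∨ x = c) → φ (φ x) = x) ∨
      (∀ x, (x = a ∨ x = b ∨ x = c) → x * φ x * φ (φ x) = 1) := by
    have iab : φ a ≠ φ b := hφ.ne hab
    have ibc : φ b ≠ φ c := hφ.ne hbc
    have ica : φ c ≠ φ a := hφ.ne hca
    rcases mem a (Or.inl rfl) with ea | ea | ea <;> rcases mem b (Or.inr (Or.inl rfl)) with eb | eb | eb <;>
      rcases mem c (Or.inr (Or.inr rfl)) with ec | ec | ec <;>
      first
      | exact absurd (ea.trans eb.symm) iab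
      | exact absurd (eb.trans ec.symm) ibc
      | exact absurd (ec.trans ea.symm) ica
      | (left; rintro x (rfl | rfl | rfl) <;> simp only [ea, eb, ec]; done)
      | (right; rintro x (rfl | rfl | rfl) <;> simp only [ea, eb, ec] <;> linear_combination habc; done)
  rcases key with key | key
  · exact Or.inl (pow_distinct h2' hA hab hbc hca (hsq a ha0 (key a (Or.inl rfl)))
      (hsq b hb0 (key b (Or.inr (Or.inl rfl)))) (hsq c hc0 (key c (Or.inr (Or.inr rfl)))))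
  · exact Or.inr (Or.inl (pow_distinct h3 hA hab hbc hca (hcyc a ha0 (key a (Or.inl rfl)))
      (hcyc b hb0 (key b (Or.inr (Or.inl rfl)))) (hcyc c hc0 (key c (Or.inr (Or.inr rfl))))))

/-- The five exponents. -/
def fiveExp (p q : ℕ) : Set ℕ := {p * (q + 1), p * (q - 1), q ^ 2 - 1, q ^ 2 + q + 1, q ^ 2 - q + 1}

/-- Exponents of a block whose roots are moved by a twisted Frobenius. -/
theorem twisted_orders [CharP L p] (hp : p.Prime) (hp3 : 3 ≤ p) {q : ℕ} (hq : 2 ≤ q) {σ : L → L}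
    (hσ : ∀ x, σ x = x ^ q) (hσi : Function.Injective σ) {A : Matrix (Fin 3) (Fin 3) L} {a b d : L}
    (hA : aeval A ((X - C a) * (X - C b) * (X - C d)) = 0) (r3 : a * b * d = 1)
    (htw : (σ a ::ₘ σ b ::ₘ σ d ::ₘ 0) = (a ::ₘ b ::ₘ d ::ₘ 0) ∨
      ((σ a)⁻¹ ::ₘ (σ b)⁻¹ ::ₘ (σ d)⁻¹ ::ₘ 0) = (a ::ₘ b ::ₘ d ::ₘ 0)) :
    ∃ n ∈ fiveExp p q, A ^ n = 1 := by
  have hnz : ∀ t : L, t ≠ 0 → ∀ n : ℕ, 1 ≤ n → t ^ n = t → t ^ (n - 1) = 1 := fun t ht n hn he =>
    mul_right_cancel₀ ht (by rw [← pow_succ, Nat.sub_add_cancel hn, he, one_mul])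
  have hle : q ≤ q ^ 2 := Nat.le_self_pow two_ne_zero q
  have h12 : q ^ 2 - 1 = (q + 1) * (q - 1) := by simpa using Nat.sq_sub_sq q 1
  have hpos : 0 < q ^ 2 - 1 := by rw [h12]; exact Nat.mul_pos (by omega) (by omega)
  have hsq : ∀ t : L, σ (σ t) = t ^ q ^ 2 := fun t => by rw [hσ, hσ, ← pow_mul, ← pow_two]
  rcases htw with h | h
  · rcases roots_perm_cases hp hp3 hA r3 hσi h (N₁ := q - 1) (N₂ := q ^ 2 - 1) (N₃ := q ^ 2 + q + 1)
        (by omega) hpos (by positivity)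
        (fun t ht he => hnz t ht q (by omega) (by rw [← hσ]; exact he))
        (fun t ht he => hnz t ht _ (by omega) (by rw [← hsq]; exact he))
        (fun t ht he => by rw [hsq, hσ] at he; rw [pow_succ, pow_add]; linear_combination he)
      with h | h | h <;> exact ⟨_, by simp [fiveExp], h⟩
  · rcases roots_perm_cases hp hp3 hA r3 (φ := fun t => (σ t)⁻¹) (inv_injective.comp hσi) h (N₁ := q + 1)
        (N₂ := q ^ 2 - 1) (N₃ := q ^ 2 - q + 1) (by omega) hpos (by positivity)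
        (fun t ht he => by
          rw [hσ] at he
          rw [pow_succ]
          nth_rw 2 [← he]
          exact mul_inv_cancel₀ (pow_ne_zero _ ht))
        (fun t ht he => hnz t ht _ (by omega) (by
          simp only [hσ, inv_pow, inv_inv, ← pow_mul] at he
          rw [pow_two]; exact he))
        (fun t ht he => by
          simp only [hσ, inv_pow, inv_inv, ← pow_mul] at he
          have hne : t ^ q ≠ 0 := pow_ne_zero _ ht
          refine mul_right_cancel₀ hne ?_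
          rw [one_mul, ← pow_add, show q ^ 2 - q + 1 + q = q * q + 1 by rw [← pow_two]; omega, pow_succ]
          field_simp at he
          linear_combination he)
      with h | h | h <;> exact ⟨_, by simp [fiveExp], h⟩

end Cubic

variable {F : Type*} [Field F] [Fintype F]

/-- The base change of a matrix to the algebraic closure. -/
noncomputable def upGL (F : Type*) [Field F] : GL (Fin 8) F →* GL (Fin 8) (AlgebraicClosure F) :=
  Matrix.GeneralLinearGroup.map (algebraMap F (AlgebraicClosure F))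

theorem upGL_mulVec (g : GL (Fin 8) F) (v : Fin 8 → F) :
    (upGL F g : Matrix (Fin 8) (Fin 8) (AlgebraicClosure F)) *ᵥ (algebraMap F (AlgebraicClosure F) ∘ v) =
      algebraMap F (AlgebraicClosure F) ∘ ((g : Matrix (Fin 8) (Fin 8) F) *ᵥ v) := by
  funext i
  exact (RingHom.map_mulVec (algebraMap F (AlgebraicClosure F)) _ v i).symm

theorem upGL_injective : Function.Injective (upGL F) := by
  intro g h e
  refine Units.ext (Matrix.ext fun i j => (algebraMap F (AlgebraicClosure F)).injective ?_)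
  exact congrArg (fun z : GL (Fin 8) (AlgebraicClosure F) => (z : Matrix (Fin 8) (Fin 8) (AlgebraicClosure F)) i j) e

theorem upGL_mem {g : GL (Fin 8) F} (hg : g ∈ Cfsg.Lie.G2 F) : upGL F g ∈ Cfsg.Lie.G2 (AlgebraicClosure F) :=
  map_mem_g2 _ hg

/-- An anisotropic vector of trace zero gives a frame in which its stabiliser acts by blocks with roots
moved by a twisted Frobenius. -/
theorem exists_block (h2 : (2 : F) ≠ 0) {q : ℕ} (hq : Fintype.card F = q) {w : Fin 8 → F}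
    (hT : zTr w = 0) (hN : zNm w ≠ 0) :
    ∃ x ∈ Cfsg.Lie.G2 (AlgebraicClosure F), ∀ g ∈ Cfsg.Lie.G2 F, (g : Matrix (Fin 8) (Fin 8) F) *ᵥ w = w →
      ∃ A : Matrix (Fin 3) (Fin 3) (AlgebraicClosure F), A.det = 1 ∧
        (∀ v, ((x * upGL F g * x⁻¹ : GL (Fin 8) (AlgebraicClosure F)) :
          Matrix (Fin 8) (Fin 8) (AlgebraicClosure F)) *ᵥ v = moveS A v) ∧
        ∃ a b d : AlgebraicClosure F, a + b + d = A.trace ∧ a * b + b * d + d * a = midCoef A ∧ a * b * d = 1 ∧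
          aeval A ((X - C a) * (X - C b) * (X - C d)) = 0 ∧
          ((a ^ q ::ₘ b ^ q ::ₘ d ^ q ::ₘ 0) = (a ::ₘ b ::ₘ d ::ₘ 0) ∨
            ((a ^ q)⁻¹ ::ₘ (b ^ q)⁻¹ ::ₘ (d ^ q)⁻¹ ::ₘ 0) = (a ::ₘ b ::ₘ d ::ₘ 0)) := by
  classical
  let K := AlgebraicClosure F
  let ι : F →+* K := algebraMap F K
  let σ : K →+* K := (FiniteField.frobeniusAlgHom F K).toRingHom
  have hσ : ∀ x : K, σ x = x ^ q := fun x => by
    show (FiniteField.frobeniusAlgHom F K) x = _
    rw [FiniteField.coe_frobeniusAlgHom, hq]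
  have hσι : ∀ a : F, σ (ι a) = ι a := fun a => by rw [hσ, ← map_pow, ← hq, FiniteField.pow_card]
  have hK2 : (2 : K) ≠ 0 := by rw [← map_ofNat ι 2]; exact (map_ne_zero ι).2 h2
  have hNK : ι (zNm w) ≠ 0 := (map_ne_zero ι).2 hN
  obtain ⟨l, hl⟩ := IsAlgClosed.exists_pow_nat_eq (-(4 * ι (zNm w))⁻¹ : K) (n := 2) two_pos
  obtain ⟨w', hw'⟩ : ∃ w', w' = ι ∘ w := ⟨_, rfl⟩
  obtain ⟨u, hu⟩ : ∃ u, u = (2 : K)⁻¹ • (zOne : Fin 8 → K) + l • w' := ⟨_, rfl⟩
  have hu' : ∀ i, u i = (2 : K)⁻¹ * (zOne : Fin 8 → K) i + l * ι (w i) := fun i => by rw [hu, hw']; rfl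
  have hT' : ι (w 0) + ι (w 7) = 0 := by rw [← map_add, show w 0 + w 7 = 0 from hT, map_zero]
  have hN' : ι (zNm w) = ι (w 0) * ι (w 7) - (ι (w 1) * ι (w 4) + ι (w 2) * ι (w 5) + ι (w 3) * ι (w 6)) := by
    simp [zNm]
  have h4 : (4 : K) ≠ 0 := by
    rw [show (4 : K) = 2 * 2 by norm_num]; exact mul_ne_zero hK2 hK2
  have hlN : l ^ 2 * ι (zNm w) = -(4 : K)⁻¹ := by
    rw [hl, mul_inv, neg_mul, mul_assoc, inv_mul_cancel₀ hNK, mul_one]
  obtain ⟨x, hx, hxu⟩ := exists_to_diag (u := u)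
    (by
      simp [hu', zOne]
      have : (2 : K)⁻¹ + (2 : K)⁻¹ = 1 := by rw [← two_mul, mul_inv_cancel₀ hK2]
      linear_combination this + l * hT')
    (by
      simp [hu', zOne]
      have e4 : (4 : K)⁻¹ = (2 : K)⁻¹ * (2 : K)⁻¹ := by rw [← mul_inv]; norm_num
      linear_combination hlN + (2 : K)⁻¹ * l * hT' - l ^ 2 * hN' - e4)
  refine ⟨x, hx, fun g hg hgw => ?_⟩
  obtain ⟨gL, hgL⟩ : ∃ gL, gL = upGL F g := ⟨_, rfl⟩
  have hgLm : gL ∈ Cfsg.Lie.G2 K := hgL ▸ upGL_mem hg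
  rw [← hgL]
  have hgw' : (gL : Matrix (Fin 8) (Fin 8) K) *ᵥ w' = w' := by rw [hgL, hw', upGL_mulVec, hgw]
  obtain ⟨h, hh⟩ : ∃ h, h = x * gL * x⁻¹ := ⟨_, rfl⟩
  rw [← hh]
  have hhm : h ∈ Cfsg.Lie.G2 K := hh ▸ mul_mem (mul_mem hx hgLm) (inv_mem hx)
  have hhe : (h : Matrix (Fin 8) (Fin 8) K) *ᵥ eZero = eZero := by
    have hgu : (gL : Matrix (Fin 8) (Fin 8) K) *ᵥ u = u := by
      rw [hu, mulVec_add, mulVec_smul, mulVec_smul, g2_one hgLm, hgw']
    rw [hh, Units.val_mul, Units.val_mul, ← hxu, ← mulVec_mulVec, gm_inv, ← mulVec_mulVec, hgu]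
  obtain ⟨hdA, hzA⟩ := stab_eZero hhm hhe
  obtain ⟨A, hA⟩ : ∃ A, A = blockA h := ⟨_, rfl⟩
  rw [← hA] at hdA hzA
  obtain ⟨a, b, d, r1, r2, r3, hp⟩ := exists_roots_three hdA
  refine ⟨A, hdA, hzA, a, b, d, r1, r2, r3, hp, ?_⟩
  -- the Galois twist
  obtain ⟨y, hy⟩ : ∃ y, y = Matrix.GeneralLinearGroup.map σ x * x⁻¹ := ⟨_, rfl⟩
  have hym : y ∈ Cfsg.Lie.G2 K := hy ▸ mul_mem (map_mem_g2 σ hx) (inv_mem hx)
  have hσg : Matrix.GeneralLinearGroup.map σ gL = gL :=
    Units.ext (Matrix.ext fun i j => by rw [hgL]; exact hσι _)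
  have hyh : Matrix.GeneralLinearGroup.map σ h * y = y * h := by
    rw [hh, hy, map_mul, map_mul, map_inv, hσg]; group
  have hσe : σ ∘ (eZero : Fin 8 → K) = eZero := by funext i; fin_cases i <;> simp [eZero]
  have hxσ : ((Matrix.GeneralLinearGroup.map σ x : GL (Fin 8) K) : Matrix (Fin 8) (Fin 8) K) *ᵥ (σ ∘ u) =
      eZero := by
    rw [← hσe, ← hxu]
    funext i; exact (RingHom.map_mulVec σ _ u i).symm
  have hzσA : ∀ v, ((Matrix.GeneralLinearGroup.map σ h : GL (Fin 8) K) : Matrix (Fin 8) (Fin 8) K) *ᵥ v =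
      moveS (A.map σ) v := by
    have hze' : ((Matrix.GeneralLinearGroup.map σ h : GL (Fin 8) K) : Matrix (Fin 8) (Fin 8) K) *ᵥ eZero =
        eZero := by
      conv_lhs => rw [← hσe]
      funext i
      refine (RingHom.map_mulVec σ _ eZero i).symm.trans ?_
      rw [hhe]
      exact congrFun hσe i
    rw [hA]
    exact (stab_eZero (map_mem_g2 σ hhm) hze').2
  have hye : (y : Matrix (Fin 8) (Fin 8) K) *ᵥ eZero =
      ((Matrix.GeneralLinearGroup.map σ x : GL (Fin 8) K) : Matrix (Fin 8) (Fin 8) K) *ᵥ u := by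
    rw [hy, Units.val_mul, ← mulVec_mulVec, ← hxu, gm_inv]
  have hσl : σ l = l ∨ σ l = -l := by
    refine sq_eq_sq_iff_eq_or_eq_neg.1 ?_
    rw [← map_pow, hl, map_neg, map_inv₀, map_mul, map_ofNat, hσι]
  have hσ2 : σ (2 : K)⁻¹ = (2 : K)⁻¹ := by rw [map_inv₀, map_ofNat]
  have hσu : ∀ i, σ (u i) = (2 : K)⁻¹ * (zOne : Fin 8 → K) i + σ l * ι (w i) := fun i => by
    rw [hu' i, map_add, map_mul, map_mul, hσι, hσ2]
    congr 1
    fin_cases i <;> simp [zOne]
  simp only [← hσ]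
  rcases hσl with hc | hc
  · have hue : σ ∘ u = u := funext fun i => by rw [Function.comp_apply, hσu, hc, hu' i]
    rw [hue] at hxσ
    rw [hxσ] at hye
    obtain ⟨hdC, hyC⟩ := stab_eZero hym hye
    refine Or.inl ((triple_twist hdC σ r1 r2 r3).1 (moveS_inj fun v => ?_))
    rw [← moveS_comp, ← moveS_comp, ← hyC, ← hzσA, ← hzA, ← hyC, mulVec_mulVec, ← Units.val_mul, hyh,
      Units.val_mul, mulVec_mulVec]
  · have hue : σ ∘ u = zOne - u := funext fun i => by
      rw [Function.comp_apply, hσu, hc, Pi.sub_apply, hu' i]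
      have : (2 : K)⁻¹ + (2 : K)⁻¹ = 1 := by rw [← two_mul, mul_inv_cancel₀ hK2]
      linear_combination (zOne : Fin 8 → K) i * this
    rw [hue, mulVec_sub, g2_one (map_mem_g2 σ hx)] at hxσ
    have hye' : (y : Matrix (Fin 8) (Fin 8) K) *ᵥ eZero = zOne - eZero := by
      rw [hye, ← hxσ, sub_sub_cancel]
    obtain ⟨s, hs, hsx⟩ := exists_swapN (L := K)
    have hsye : ((s * y : GL (Fin 8) K) : Matrix (Fin 8) (Fin 8) K) *ᵥ eZero = eZero := by
      rw [Units.val_mul, ← mulVec_mulVec, hye', hsx]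
      funext i; fin_cases i <;> simp [moveN, eZero, zOne]
    obtain ⟨hdC, hyC⟩ := stab_eZero (mul_mem hs hym) hsye
    refine Or.inr ((triple_twist hdC σ r1 r2 r3).2 hdA (moveS_inj fun v => ?_))
    have hdσ : (A.map σ).det = 1 := by
      rw [show A.map σ = σ.mapMatrix A from rfl, ← RingHom.map_det, hdA, map_one]
    rw [← moveS_comp, ← moveS_comp, ← hyC, ← moveN_moveS hdσ, ← hzσA, ← hzA, ← hyC, Units.val_mul,
      ← mulVec_mulVec, hsx, moveN_invol, mulVec_mulVec, ← Units.val_mul, hyh, Units.val_mul, ← mulVec_mulVec,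
      ← mulVec_mulVec, hsx]

/-- A block killed by `n` kills the automorphism. -/
theorem pow_eq_one_of_block {g : GL (Fin 8) F} {x : GL (Fin 8) (AlgebraicClosure F)}
    {A : Matrix (Fin 3) (Fin 3) (AlgebraicClosure F)}
    (hA : ∀ v, ((x * upGL F g * x⁻¹ : GL (Fin 8) (AlgebraicClosure F)) :
      Matrix (Fin 8) (Fin 8) (AlgebraicClosure F)) *ᵥ v = moveS A v) {n : ℕ} (hn : A ^ n = 1) : g ^ n = 1 := by
  refine upGL_injective ?_
  have h1 : (x * upGL F g * x⁻¹) ^ n = 1 := pow_eq_one_of_moveS hA hn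
  rw [conj_pow, conj_eq_one_iff] at h1
  rw [map_pow, h1, map_one]

/-- An automorphism fixing an anisotropic vector of trace zero. -/
theorem aniso_cases {p : ℕ} [CharP F p] (hp : p.Prime) (hp2 : p ≠ 2) {q : ℕ} (hq : Fintype.card F = q)
    {g : GL (Fin 8) F} (hg : g ∈ Cfsg.Lie.G2 F) {w : Fin 8 → F} (hT : zTr w = 0) (hN : zNm w ≠ 0)
    (hgw : (g : Matrix (Fin 8) (Fin 8) F) *ᵥ w = w) : ∃ n ∈ fiveExp p q, g ^ n = 1 := by
  have hp3 : 3 ≤ p := by have := hp.two_le; omega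
  have h2 : (2 : F) ≠ 0 := fun h => hp2 ((Nat.prime_dvd_prime_iff_eq hp Nat.prime_two).1
    ((CharP.cast_eq_zero_iff F p 2).1 (by exact_mod_cast h)))
  haveI : CharP (AlgebraicClosure F) p :=
    (RingHom.charP_iff _ (algebraMap F (AlgebraicClosure F)).injective p).1 inferInstance
  obtain ⟨x, -, hblock⟩ := exists_block h2 hq hT hN
  obtain ⟨A, -, hA, a, b, d, -, -, r3, hroots, htw⟩ := hblock g hg hgw
  obtain ⟨n, hn, hAn⟩ := twisted_orders hp hp3 (hq ▸ Fintype.one_lt_card) (σ := fun t => t ^ q) (fun t => rfl)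
    (fun s t hst => (FiniteField.frobeniusAlgHom F (AlgebraicClosure F)).injective (by
      simpa [FiniteField.coe_frobeniusAlgHom, hq] using hst)) hroots r3 htw
  exact ⟨n, hn, pow_eq_one_of_block hA hAn⟩

end CfsgLib.KnownC.G2Oct
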