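import Mathlib
import Cfsg.Agent.Lib.KnownC.G2Oct.Cases
import Cfsg.Agent.Lib.KnownC.G2Oct.Bridge

/-!
Exponents of the automorphisms of Zorn's algebra over a finite field of odd order.
-/

set_option autoImplicit false
set_option maxHeartbeats 2000000

namespace CfsgLib.KnownC.G2Oct

open Matrix Cfsg.Lie Polynomial CfsgLib.NormalCover

variable {L : Type*} [Field L]

/-- The projection onto the scalars. -/
def scalProj (L : Type*) [Field L] : Matrix (Fin 8) (Fin 8) L :=
  Matrix.of fun i j => (2 : L)⁻¹ * (zOne : Fin 8 → L) i * (zOne : Fin 8 → L) j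

theorem scalProj_mulVec (x : Fin 8 → L) : scalProj L *ᵥ x = ((2 : L)⁻¹ * zTr x) • (zOne : Fin 8 → L) := by
  funext i
  simp [scalProj, Matrix.mulVec, dotProduct, Fin.sum_univ_eight, zOne, zTr]
  ring

theorem scalProj_reflect (h2 : (2 : L) ≠ 0) : ((2 : L) • scalProj L - 1).det = -1 := by
  have e : (2 : L) • scalProj L - 1 =
      Matrix.diagonal (fun i : Fin 8 => if i = 0 ∨ i = 7 then (1 : L) else -1) *
        (Equiv.swap (0 : Fin 8) 7).permMatrix L := by
    ext i j
    rw [Matrix.diagonal_mul]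
    fin_cases i <;> fin_cases j <;>
      simp [scalProj, zOne, h2, Matrix.one_apply, Equiv.swap_apply_def, PEquiv.toMatrix, Equiv.Perm.permMatrix]
  rw [e, det_mul, det_diagonal, Matrix.det_permutation, Equiv.Perm.sign_swap (by decide)]
  simp [Fin.prod_univ_eight]

/-- An automorphism of determinant one fixes a non-zero vector of trace zero. -/
theorem exists_fixed_pure (h2 : (2 : L) ≠ 0) {g : GL (Fin 8) L} (hg : g ∈ Cfsg.Lie.G2 L)
    (hd : (g : Matrix (Fin 8) (Fin 8) L).det = 1) :
    ∃ v, v ≠ 0 ∧ zTr v = 0 ∧ (g : Matrix (Fin 8) (Fin 8) L) *ᵥ v = v := by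
  classical
  obtain ⟨G, hG⟩ : ∃ G, G = (g : Matrix (Fin 8) (Fin 8) L) := ⟨_, rfl⟩
  obtain ⟨G', hG'⟩ : ∃ G', G' = ((g⁻¹ : GL (Fin 8) L) : Matrix (Fin 8) (Fin 8) L) := ⟨_, rfl⟩
  rw [← hG] at hd ⊢
  obtain ⟨P, hP⟩ : ∃ P, P = scalProj L := ⟨_, rfl⟩
  have h22 : (2 : L)⁻¹ * 2 = 1 := inv_mul_cancel₀ h2
  have hinv : ∀ x, zTr (G *ᵥ x) = zTr x := fun x => hG ▸ (g2_tr_nm hg x).1
  have hG1 : G *ᵥ zOne = zOne := hG ▸ g2_one hg
  have hGP : G * P = P := Matrix.ext_iff_mulVec.2 fun x => by
    rw [← mulVec_mulVec, hP, scalProj_mulVec, mulVec_smul, hG1]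
  have hPG : P * G = P := Matrix.ext_iff_mulVec.2 fun x => by
    rw [← mulVec_mulVec, hP, scalProj_mulVec, scalProj_mulVec, hinv]
  have hPP : P * P = P := Matrix.ext_iff_mulVec.2 fun x => by
    have hc : ∀ c : L, zTr (c • (zOne : Fin 8 → L)) = 2 * c := fun c => by simp [zTr, zOne]; ring
    rw [← mulVec_mulVec, hP, scalProj_mulVec, scalProj_mulVec, hc, ← mul_assoc, h22, one_mul]
  have hPt : Pᵀ = P := by
    ext i j; simp [hP, scalProj]; ring
  have hgramP : gram * P = P * (gram : Matrix (Fin 8) (Fin 8) L) := by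
    rw [hP]
    ext i j
    fin_cases i <;> fin_cases j <;> simp [scalProj, gram, zOne, Matrix.mul_apply, Fin.sum_univ_eight]
  have hgg : G' * G = 1 := by rw [hG, hG', ← Units.val_mul, inv_mul_cancel, Units.val_one]
  have hgg' : G * G' = 1 := by rw [hG, hG', ← Units.val_mul, mul_inv_cancel, Units.val_one]
  have hconj : Gᵀ = gram * G' * (gram : Matrix (Fin 8) (Fin 8) L) := by
    have h := g2_gram hg
    rw [← hG] at h
    calc Gᵀ = Gᵀ * gram * (G * G') * gram := by rw [hgg', mul_one, mul_assoc, gram_mul_self, mul_one]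
      _ = (Gᵀ * gram * G) * G' * gram := by simp only [mul_assoc]
      _ = gram * G' * gram := by rw [h]
  have hdet : (G - 1 + P).det = 0 := by
    have e1 : (G - 1 + P)ᵀ = gram * (G' - 1 + P) * gram := by
      rw [transpose_add, transpose_sub, transpose_one, hPt, hconj, mul_add, mul_sub, add_mul, sub_mul, mul_one,
        gram_mul_self, hgramP, mul_assoc P, gram_mul_self, mul_one]
    have e2 : G' - 1 + P = G' * ((G - 1 + P) * ((2 : L) • P - 1)) := by
      have e3 : (G - 1 + P) * ((2 : L) • P - 1) = 1 - G + P := by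
        rw [mul_sub, mul_one, Matrix.mul_smul, add_mul, sub_mul, hGP, one_mul, hPP]
        module
      rw [e3, mul_add, mul_sub, mul_one, hgg]
      congr 1
      calc P = G' * G * P := by rw [hgg, one_mul]
        _ = G' * P := by rw [mul_assoc, hGP]
    have hdG : G'.det = 1 := by
      have := congrArg Matrix.det hgg
      rwa [det_mul, hd, mul_one, det_one] at this
    have hgr : (gram : Matrix (Fin 8) (Fin 8) L).det * (gram : Matrix (Fin 8) (Fin 8) L).det = 1 := by
      rw [← det_mul, gram_mul_self, det_one]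
    have h := congrArg Matrix.det e1
    rw [det_transpose, e2, det_mul, det_mul, det_mul, det_mul, hdG, hP, scalProj_reflect h2, ← hP] at h
    have h0 : (2 : L) * (G - 1 + P).det = 0 := by linear_combination h - (G - 1 + P).det * hgr
    exact (mul_eq_zero.1 h0).resolve_left h2
  obtain ⟨v, hv0, hv⟩ := Matrix.exists_mulVec_eq_zero_iff.2 hdet
  have hPv : P *ᵥ v = 0 := by
    have := congrArg (fun z => P *ᵥ z) hv
    simpa only [mulVec_mulVec, mul_add, mul_sub, mul_one, hPG, hPP, sub_self, zero_add, mulVec_zero] using this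
  refine ⟨v, hv0, ?_, ?_⟩
  · rw [hP, scalProj_mulVec] at hPv
    have := congrFun hPv 0
    simpa [zOne, h2] using this
  · rw [add_mulVec, hPv, add_zero, sub_mulVec, one_mulVec, sub_eq_zero] at hv
    exact hv

/-- A nilpotent map vanishes to the power of the dimension on an invariant subspace. -/
theorem pow_eq_zero_on {V : Type*} [AddCommGroup V] [Module L V] [FiniteDimensional L V] (N : Module.End L V)
    (hN : IsNilpotent N) (U : Submodule L V) (hU : ∀ x ∈ U, N x ∈ U) {k : ℕ} (hk : Module.finrank L U ≤ k)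
    {x : V} (hx : x ∈ U) : (N ^ k) x = 0 := by
  obtain ⟨n, hn⟩ := hN
  obtain ⟨R, hR⟩ : ∃ R : Module.End L U, R = LinearMap.restrict N hU := ⟨_, rfl⟩
  have hval : ∀ j (y : U), ((R ^ j) y : V) = (N ^ j) y := by
    intro j
    induction j with
    | zero => intro y; simp
    | succ j ih =>
      intro y
      rw [pow_succ', pow_succ', Module.End.mul_apply, Module.End.mul_apply, ← ih, hR]
      rfl
  have hnil : IsNilpotent R := ⟨n, LinearMap.ext fun y => Subtype.ext (by rw [hval, hn]; simp)⟩
  have h := R.aeval_self_charpoly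
  rw [hnil.charpoly_eq_X_pow_finrank, map_pow, aeval_X] at h
  have h2 : R ^ k = 0 := by rw [← Nat.sub_add_cancel hk, pow_add, h, mul_zero]
  have h3 := hval k ⟨x, hx⟩
  rw [h2] at h3
  simpa using h3.symm

section Frame

/-- The block minus one of a matrix with roots `1, t, t⁻¹` has kernel of dimension one. -/
theorem finrank_fixed_block {S : Matrix (Fin 3) (Fin 3) L} (h1 : midCoef S = S.trace) (h3 : S.trace ≠ 3)
    (hd : S.det = 1) : Module.finrank L (LinearMap.ker (Matrix.toLin' (S - 1))) = 1 := by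
  classical
  obtain ⟨M, hM⟩ : ∃ M, M = S - 1 := ⟨_, rfl⟩
  rw [← hM]
  have hdet : M.det = 0 := by
    rw [det_fin_three] at hd
    rw [hM, det_fin_three]
    unfold midCoef at h1
    simp [adjugate_fin_three, trace_fin_three] at h1
    simp
    linear_combination hd - h1
  have hmid : M.adjugate.trace ≠ 0 := by
    intro h0
    apply h3
    unfold midCoef at h1
    rw [hM] at h0
    simp [adjugate_fin_three, trace_fin_three] at h0 h1 ⊢
    linear_combination h1 - h0
  obtain ⟨i, hi⟩ : ∃ i, M.adjugate i i ≠ 0 := by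
    by_contra hc
    push Not at hc
    exact hmid (by simp [Matrix.trace, hc])
  have hker : ∀ y : Fin 3 → L, M *ᵥ y = 0 → ∀ k, M.adjugate i i * y k = M.adjugate k i * y i := by
    intro y hy k
    have e0 := congrFun hy 0
    have e1 := congrFun hy 1
    have e2 := congrFun hy 2
    simp [Matrix.mulVec, vec3_dotProduct] at e0 e1 e2
    fin_cases i <;> fin_cases k <;> simp [adjugate_fin_three]
    all_goals first
      | ring1
      | linear_combination M 2 2 * e1 - M 1 2 * e2
      | linear_combination -(M 2 1) * e1 + M 1 1 * e2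
      | linear_combination -(M 2 2) * e0 + M 0 2 * e2
      | linear_combination M 2 0 * e0 - M 0 0 * e2
      | linear_combination M 1 1 * e0 - M 0 1 * e1
      | linear_combination -(M 1 0) * e0 + M 0 0 * e1
      | linear_combination -(M 2 2 * e1 - M 1 2 * e2)
      | linear_combination -(-(M 2 1) * e1 + M 1 1 * e2)
      | linear_combination -(-(M 2 2) * e0 + M 0 2 * e2)
      | linear_combination -(M 2 0 * e0 - M 0 0 * e2)
      | linear_combination -(M 1 1 * e0 - M 0 1 * e1)
      | linear_combination -(-(M 1 0) * e0 + M 0 0 * e1)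
  refine le_antisymm ?_ ?_
  · let f : LinearMap.ker (Matrix.toLin' M) →ₗ[L] L := (LinearMap.proj i).comp (Submodule.subtype _)
    have hf : Function.Injective f := by
      refine (injective_iff_map_eq_zero f).2 fun y hy => Subtype.ext (funext fun k => ?_)
      have h := hker y.1 ((Matrix.toLin'_apply M y.1).symm.trans (LinearMap.mem_ker.1 y.2)) k
      rw [show y.1 i = 0 from hy, mul_zero] at h
      exact (mul_eq_zero.1 h).resolve_left hi
    simpa using LinearMap.finrank_le_finrank_of_injective hf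
  · obtain ⟨v, hv0, hv⟩ := Matrix.exists_mulVec_eq_zero_iff.2 hdet
    refine Submodule.one_le_finrank_iff.2 fun hb => hv0 ?_
    have : v ∈ LinearMap.ker (Matrix.toLin' M) := by simpa using hv
    rwa [hb, Submodule.mem_bot] at this

/-- In a frame the fixed space of a block with roots `1, t, t⁻¹` has dimension four. -/
theorem finrank_fixed {s : GL (Fin 8) L} {S : Matrix (Fin 3) (Fin 3) L}
    (hs : ∀ v, (s : Matrix (Fin 8) (Fin 8) L) *ᵥ v = moveS S v) (h1 : midCoef S = S.trace)
    (h3 : S.trace ≠ 3) (hd : S.det = 1) :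
    Module.finrank L (LinearMap.ker (Matrix.toLin' ((s : Matrix (Fin 8) (Fin 8) L) - 1))) = 4 := by
  classical
  obtain ⟨f1, f2⟩ := coef_adjT hd
  have hT : (adjT S).det = 1 := by rw [adjT, det_transpose, det_adjugate, hd, one_pow]
  have ka := finrank_fixed_block h1 h3 hd
  have kb := finrank_fixed_block (S := adjT S) (by rw [f1, f2, h1]) (by rw [f1, h1]; exact h3) hT
  let φ : (L × L) × (LinearMap.ker (Matrix.toLin' (S - 1)) × LinearMap.ker (Matrix.toLin' (adjT S - 1))) →ₗ[L]
      Fin 8 → L :=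
    { toFun := fun z => ![z.1.1, z.2.1.1 0, z.2.1.1 1, z.2.1.1 2, z.2.2.1 0, z.2.2.1 1, z.2.2.1 2, z.1.2]
      map_add' := fun z z' => by funext i; fin_cases i <;> simp
      map_smul' := fun c z => by funext i; fin_cases i <;> simp }
  have hφ : Function.Injective φ := by
    refine (injective_iff_map_eq_zero φ).2 fun z hz => ?_
    have e := fun i => congrFun hz i
    simp [φ, Fin.forall_fin_succ] at e
    obtain ⟨a, b1, b2, b3, c1, c2, c3, d⟩ := e
    refine Prod.ext (Prod.ext a d) (Prod.ext (Subtype.ext (funext fun i => ?_)) (Subtype.ext (funext fun i => ?_)))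
    · fin_cases i <;> simp [b1, b2, b3]
    · fin_cases i <;> simp [c1, c2, c3]
  have hmove : ∀ v : Fin 8 → L, moveS S v = ![v 0, (S *ᵥ ![v 1, v 2, v 3]) 0, (S *ᵥ ![v 1, v 2, v 3]) 1,
      (S *ᵥ ![v 1, v 2, v 3]) 2, (adjT S *ᵥ ![v 4, v 5, v 6]) 0, (adjT S *ᵥ ![v 4, v 5, v 6]) 1,
      (adjT S *ᵥ ![v 4, v 5, v 6]) 2, v 7] := fun v => by
    funext i
    fin_cases i <;> simp [moveS, adjT, adjugate_fin_three, Matrix.mulVec, dotProduct, Fin.sum_univ_three] <;>
      first | ring1 | (ring_nf; simp)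
  have hrange : LinearMap.range φ = LinearMap.ker (Matrix.toLin' ((s : Matrix (Fin 8) (Fin 8) L) - 1)) := by
    refine le_antisymm ?_ fun v hv => ?_
    · rintro _ ⟨z, rfl⟩
      have ha : S *ᵥ z.2.1.1 = z.2.1.1 := by
        simpa [sub_mulVec, sub_eq_zero] using z.2.1.2
      have hb : adjT S *ᵥ z.2.2.1 = z.2.2.1 := by
        simpa [sub_mulVec, sub_eq_zero] using z.2.2.2
      rw [LinearMap.mem_ker, Matrix.toLin'_apply, sub_mulVec, one_mulVec, sub_eq_zero, hs, hmove]
      have ea : (![φ z 1, φ z 2, φ z 3] : Fin 3 → L) = z.2.1.1 := by funext i; fin_cases i <;> rfl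
      have eb : (![φ z 4, φ z 5, φ z 6] : Fin 3 → L) = z.2.2.1 := by funext i; fin_cases i <;> rfl
      rw [ea, eb, ha, hb]
      funext i; fin_cases i <;> rfl
    · rw [LinearMap.mem_ker, Matrix.toLin'_apply, sub_mulVec, one_mulVec, sub_eq_zero, hs, hmove] at hv
      refine ⟨((v 0, v 7), (⟨![v 1, v 2, v 3], ?_⟩, ⟨![v 4, v 5, v 6], ?_⟩)), ?_⟩
      · rw [LinearMap.mem_ker, Matrix.toLin'_apply, sub_mulVec, one_mulVec, sub_eq_zero]
        have e1 := congrFun hv 1
        have e2 := congrFun hv 2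
        have e3 := congrFun hv 3
        funext i; fin_cases i
        · exact e1
        · exact e2
        · exact e3
      · rw [LinearMap.mem_ker, Matrix.toLin'_apply, sub_mulVec, one_mulVec, sub_eq_zero]
        have e1 := congrFun hv 4
        have e2 := congrFun hv 5
        have e3 := congrFun hv 6
        funext i; fin_cases i
        · exact e1
        · exact e2
        · exact e3
      · funext i; fin_cases i <;> rfl
  rw [← hrange, LinearMap.finrank_range_of_inj hφ]
  simp [Module.finrank_prod, ka, kb]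

end Frame

/-- A unipotent isometry commuting with a semisimple one whose fixed space has dimension four. -/
theorem cube_eq_zero (h2 : (2 : L) ≠ 0) {s u : GL (Fin 8) L} (hs : s ∈ Cfsg.Lie.G2 L) (hu : u ∈ Cfsg.Lie.G2 L)
    (hcomm : s * u = u * s) {m : ℕ} (hsm : s ^ m = 1) (hm : (m : L) ≠ 0)
    (hnil : IsNilpotent ((u : Matrix (Fin 8) (Fin 8) L) - 1))
    (hfix : Module.finrank L (LinearMap.ker (Matrix.toLin' ((s : Matrix (Fin 8) (Fin 8) L) - 1))) = 4) :
    ((u : Matrix (Fin 8) (Fin 8) L) - 1) ^ 3 = 0 := by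
  classical
  obtain ⟨T, hT⟩ : ∃ T, T = Matrix.toLin' ((s : Matrix (Fin 8) (Fin 8) L) - 1) := ⟨_, rfl⟩
  obtain ⟨N, hN⟩ : ∃ N : Module.End L (Fin 8 → L), N = Matrix.toLinAlgEquiv' ((u : Matrix (Fin 8) (Fin 8) L) - 1) :=
    ⟨_, rfl⟩
  rw [← hT] at hfix
  have hTa : ∀ x, T x = (s : Matrix (Fin 8) (Fin 8) L) *ᵥ x - x := fun x => by
    rw [hT, Matrix.toLin'_apply, sub_mulVec, one_mulVec]
  have hNa : ∀ x, N x = (u : Matrix (Fin 8) (Fin 8) L) *ᵥ x - x := fun x => by
    rw [hN, Matrix.toLinAlgEquiv'_apply, sub_mulVec, one_mulVec]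
  have hNnil : IsNilpotent N := hN ▸ hnil.map Matrix.toLinAlgEquiv'
  have hTN : ∀ x, T (N x) = N (T x) := fun x => by
    simp only [hTa, hNa, mulVec_sub, mulVec_mulVec, ← Units.val_mul, hcomm]
    abel
  -- the fixed space
  have hone : ∀ x ∈ LinearMap.ker T, N x ∈ LinearMap.ker T := fun x hx => by
    rw [LinearMap.mem_ker, hTN, LinearMap.mem_ker.1 hx, map_zero]
  have hN1 : N zOne = 0 := by rw [hNa, g2_one hu, sub_self]
  have hNtr : ∀ x, zTr (N x) = 0 := fun x => by
    rw [hNa]
    have := (g2_tr_nm hu x).1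
    simp only [zTr, Pi.sub_apply] at this ⊢
    linear_combination this
  have hE : ∀ x ∈ LinearMap.ker T, (N ^ 3) x = 0 := by
    intro x hx
    obtain ⟨U, hU⟩ : ∃ U : Submodule L (Fin 8 → L), U = LinearMap.ker T ⊓ LinearMap.ker (zTrL : _ →ₗ[L] L) :=
      ⟨_, rfl⟩
    have hUle : Module.finrank L U ≤ 3 := by
      have hlt : U < LinearMap.ker T := lt_of_le_of_ne (hU ▸ inf_le_left) fun h => by
        have h1 : (zOne : Fin 8 → L) ∈ LinearMap.ker T := by rw [LinearMap.mem_ker, hTa, g2_one hs, sub_self]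
        rw [← h, hU, Submodule.mem_inf, LinearMap.mem_ker] at h1
        exact h2 (by simpa [zTrL, zTr, zOne, one_add_one_eq_two] using h1.2)
      have := Submodule.finrank_lt_finrank_of_lt hlt
      omega
    have hUinv : ∀ y ∈ U, N y ∈ U := fun y hy => by
      rw [hU] at hy ⊢
      exact ⟨hone y hy.1, hNtr y⟩
    obtain ⟨c, hc⟩ : ∃ c, c = (2 : L)⁻¹ * zTr x := ⟨_, rfl⟩
    have hx0 : x - c • zOne ∈ U := by
      rw [hU]
      refine ⟨?_, ?_⟩
      · refine Submodule.sub_mem _ hx (Submodule.smul_mem _ _ ?_)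
        rw [LinearMap.mem_ker, hTa, g2_one hs, sub_self]
      · show zTr (x - c • zOne) = 0
        simp [hc, zTr, zOne]
        field_simp
        ring
    have h := pow_eq_zero_on N hNnil U hUinv hUle hx0
    rwa [map_sub, map_smul, pow_succ (n := 2), Module.End.mul_apply (x := zOne), hN1, map_zero, smul_zero,
      sub_zero, ← pow_succ] at h
  -- the complement
  have hiso : ∀ {z : GL (Fin 8) L}, z ∈ Cfsg.Lie.G2 L → ∀ a b : Fin 8 → L,
      zPol ((z : Matrix (Fin 8) (Fin 8) L) *ᵥ a) ((z : Matrix (Fin 8) (Fin 8) L) *ᵥ b) = zPol a b :=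
    fun hz a b => g2_pol hz a b
  have hdisj : ∀ z, z ∈ LinearMap.ker T → z ∈ LinearMap.range T → z = 0 := by
    rintro z hz ⟨a, rfl⟩
    have hsz : (s : Matrix (Fin 8) (Fin 8) L) *ᵥ T a = T a := by
      have := LinearMap.mem_ker.1 hz; rwa [hTa (T a), sub_eq_zero] at this
    have hk : ∀ k : ℕ, ((s ^ k : GL (Fin 8) L) : Matrix (Fin 8) (Fin 8) L) *ᵥ a = a + (k : L) • T a := by
      intro k
      induction k with
      | zero => simp
      | succ k ih =>
        rw [pow_succ', Units.val_mul, ← mulVec_mulVec, ih, mulVec_add, mulVec_smul, hsz, Nat.cast_add,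
          Nat.cast_one, add_smul, one_smul, hTa]
        abel
    have h := hk m
    rw [hsm, Units.val_one, one_mulVec, left_eq_add, smul_eq_zero] at h
    exact h.resolve_left hm
  have hrank : Module.finrank L (LinearMap.range T) = 4 := by
    have h := T.finrank_range_add_finrank_ker
    simp at h
    omega
  have hW : ∀ x ∈ LinearMap.range T, N x ∈ LinearMap.range T := by
    rintro _ ⟨a, rfl⟩; exact ⟨N a, hTN a⟩
  have hW4 : ∀ x ∈ LinearMap.range T, (N ^ 4) x = 0 := fun x hx =>
    pow_eq_zero_on N hNnil _ hW hrank.le hx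
  have hsup : LinearMap.ker T ⊔ LinearMap.range T = ⊤ := by
    have hinf : LinearMap.ker T ⊓ LinearMap.range T = ⊥ := eq_bot_iff.2 fun z hz => hdisj z hz.1 hz.2
    apply Submodule.eq_top_of_finrank_eq
    have h := Submodule.finrank_sup_add_finrank_inf_eq (LinearMap.ker T) (LinearMap.range T)
    rw [hinf, finrank_bot, hfix, hrank] at h
    simp
    omega
  -- the adjoint of `N`
  obtain ⟨N', hN'⟩ : ∃ N' : Module.End L (Fin 8 → L),
      N' = Matrix.toLinAlgEquiv' (((u⁻¹ : GL (Fin 8) L) : Matrix (Fin 8) (Fin 8) L)) := ⟨_, rfl⟩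
  have hN'a : ∀ x, N' x = ((u⁻¹ : GL (Fin 8) L) : Matrix (Fin 8) (Fin 8) L) *ᵥ x := fun x => by
    rw [hN', Matrix.toLinAlgEquiv'_apply]
  have hcomm' : ∀ x, N (N' x) = N' (N x) := fun x => by
    simp only [hNa, hN'a, mulVec_sub, mulVec_mulVec, ← Units.val_mul, mul_inv_cancel, inv_mul_cancel]
  have hadj : ∀ a b, zPol (N a) b = -zPol a (N (N' b)) := fun a b => by
    have e : (u : Matrix (Fin 8) (Fin 8) L) *ᵥ (N' b) = b := by
      rw [hN'a, mulVec_mulVec, ← Units.val_mul, mul_inv_cancel, Units.val_one, one_mulVec]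
    have h := hiso hu a (N' b)
    rw [e] at h
    rw [hNa, hNa (N' b), e]
    simp only [zPol, Pi.sub_apply] at h ⊢
    linear_combination h
  have hadd : ∀ a b c : Fin 8 → L, zPol a (b + c) = zPol a b + zPol a c := fun a b c => by simp [zPol]; ring
  have hsmul : ∀ (a b : Fin 8 → L) (c : L), zPol a (c • b) = c * zPol a b := fun a b c => by simp [zPol]; ring
  have hsymm : ∀ a b : Fin 8 → L, zPol a b = zPol b a := fun a b => by simp [zPol]; ring
  have hW3 : ∀ x ∈ LinearMap.range T, (N ^ 3) x = 0 := by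
    intro x hx
    by_contra hne
    obtain ⟨e, he⟩ : ∃ e, e = (N ^ 3) x := ⟨_, rfl⟩
    rw [← he] at hne
    have hNe : N e = 0 := by rw [he, ← Module.End.mul_apply, ← pow_succ', hW4 x hx]
    have hz : ∀ b, zPol e (N b) = 0 := fun b => by
      have e1 : N (N' ((u : Matrix (Fin 8) (Fin 8) L) *ᵥ b)) = N b := by
        rw [hN'a, mulVec_mulVec, ← Units.val_mul, inv_mul_cancel, Units.val_one, one_mulVec]
      have := hadj e ((u : Matrix (Fin 8) (Fin 8) L) *ᵥ b)
      rw [hNe, e1] at this
      simp [zPol] at this ⊢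
      linear_combination this
    have hN3' : ∀ y, (N ^ 3) y = N (N (N y)) := fun y => rfl
    have hx0 : zPol e x = 0 := by
      have hfixN' : ∀ y, N' y = y - N (N' y) := fun y => by
        rw [hNa, hN'a, mulVec_mulVec, ← Units.val_mul, mul_inv_cancel, Units.val_one, one_mulVec, sub_sub_cancel]
      have hc2 : s * u⁻¹ = u⁻¹ * s := Commute.inv_right hcomm
      have hmem : ∀ y ∈ LinearMap.range T, N' y ∈ LinearMap.range T := by
        rintro _ ⟨a, rfl⟩
        refine ⟨N' a, ?_⟩
        simp only [hTa, hN'a, mulVec_sub, mulVec_mulVec, ← Units.val_mul, hc2]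
      have hpow : ∀ y ∈ LinearMap.range T, (N ^ 3) (N' y) = (N ^ 3) y := fun y hy => by
        conv_lhs => rw [hfixN' y]
        rw [map_sub, ← Module.End.mul_apply (f := N ^ 3), ← pow_succ, hW4 _ (hmem y hy), sub_zero]
      have h : zPol (N (N (N x))) x = -zPol x (N (N' (N (N' (N (N' x)))))) := by
        rw [hadj (N (N x)), hadj (N x), hadj x, neg_neg]
      have e2 : N (N' (N (N' (N (N' x))))) = e := by
        simp only [← hcomm']
        rw [← hN3', hpow _ (hmem _ (hmem x hx)), hpow _ (hmem x hx), hpow x hx, he]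
      rw [e2, ← hN3', ← he, hsymm x e] at h
      exact (mul_eq_zero.1 (show (2 : L) * zPol e x = 0 by linear_combination h)).resolve_left h2
    have hspan : LinearMap.range T ≤ Submodule.span L (Set.range fun i : Fin 4 => (N ^ (i : ℕ)) x) := by
      have hmemp : ∀ i : ℕ, (N ^ i) x ∈ LinearMap.range T := by
        intro i
        induction i with
        | zero => simpa using hx
        | succ i ih => rw [pow_succ', Module.End.mul_apply]; exact hW _ ih
      have hli : LinearIndependent L fun i : Fin 4 => (N ^ (i : ℕ)) x := by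
        rw [Fintype.linearIndependent_iff]
        intro c hc
        have h0 : ∀ j : ℕ, (c 0 • (N ^ j) x + c 1 • (N ^ (j + 1)) x + c 2 • (N ^ (j + 2)) x +
            c 3 • (N ^ (j + 3)) x) = 0 := by
          intro j
          have := congrArg (N ^ j) hc
          simp only [Fin.sum_univ_four, Fin.val_zero, Fin.val_one, Fin.val_two,
            show ((3 : Fin 4) : ℕ) = 3 from rfl, map_add, map_smul, map_zero, ← Module.End.mul_apply,
            ← pow_add, add_zero] at this
          exact this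
        have hv : ∀ j, 4 ≤ j → (N ^ j) x = 0 := fun j hj => by
          rw [← Nat.sub_add_cancel hj, pow_add, Module.End.mul_apply, hW4 x hx, map_zero]
        have e3 := h0 3
        rw [hv 4 le_rfl, hv 5 (by norm_num), hv 6 (by norm_num)] at e3
        simp [← he, hne] at e3
        have e2 := h0 2
        rw [hv 4 le_rfl, hv 5 (by norm_num), e3] at e2
        simp [← he, hne] at e2
        have e1 := h0 1
        rw [hv 4 le_rfl, e3, e2] at e1
        simp [← he, hne] at e1
        have e0 := h0 0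
        rw [e3, e2, e1] at e0
        simp [← he, hne] at e0
        intro i
        fin_cases i <;> assumption
      refine (le_of_eq (Submodule.eq_of_le_of_finrank_le ?_ ?_).symm)
      · rw [Submodule.span_le]; rintro _ ⟨i, rfl⟩; exact hmemp i
      · rw [hrank, finrank_span_eq_card hli]; simp
    have hperp : ∀ y ∈ LinearMap.range T, zPol e y = 0 := by
      intro y hy
      obtain ⟨c, rfl⟩ := Submodule.mem_span_range_iff_exists_fun L |>.1 (hspan hy)
      have h1 : ∀ i : ℕ, zPol e ((N ^ (i + 1)) x) = 0 := fun i => by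
        rw [pow_succ', Module.End.mul_apply]; exact hz _
      simp only [Fin.sum_univ_four, hadd, hsmul, Fin.val_zero, Fin.val_one, Fin.val_two,
        show ((3 : Fin 4) : ℕ) = 3 from rfl]
      rw [pow_zero, Module.End.one_apply, hx0, h1 0, h1 1, h1 2]
      ring
    refine hne ?_
    have heW : e ∈ LinearMap.range T := by
      rw [he, hN3']; exact hW _ (hW _ (hW _ hx))
    have hall : ∀ y, zPol e y = 0 := by
      intro y
      obtain ⟨a, ha, b, hb, rfl⟩ := Submodule.mem_sup.1 (hsup ▸ (Submodule.mem_top : y ∈ ⊤))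
      obtain ⟨e', he'⟩ := heW
      have hka : (s : Matrix (Fin 8) (Fin 8) L) *ᵥ a = a := by
        have := LinearMap.mem_ker.1 ha; rwa [hTa, sub_eq_zero] at this
      have h := hiso hs e' a
      rw [hka] at h
      rw [hadd, hperp b hb, add_zero, ← he', hTa]
      simp only [zPol, Pi.sub_apply] at h ⊢
      linear_combination h
    funext i
    have := hall (Pi.single ((![7, 4, 5, 6, 1, 2, 3, 0] : Fin 8 → Fin 8) i) 1)
    fin_cases i <;> simpa [zPol] using this
  have hfin : N ^ 3 = 0 := LinearMap.ext fun y => by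
    obtain ⟨a, ha, b, hb, rfl⟩ := Submodule.mem_sup.1 (hsup ▸ (Submodule.mem_top : y ∈ ⊤))
    rw [map_add, hE a ha, hW3 b hb, add_zero, LinearMap.zero_apply]
  rw [hN, ← map_pow] at hfin
  exact (map_eq_zero_iff _ Matrix.toLinAlgEquiv'.injective).1 hfin

end CfsgLib.KnownC.G2Oct
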