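import Mathlib
import Cfsg.Agent.Lib.KnownC.G2Oct.Fixed

/-!
Every element of the adjoint group of type `G₂` over a finite field of odd order is killed by one of five
exponents, or by `p²` for `p = 3, 5`.
-/

set_option autoImplicit false
set_option maxHeartbeats 1000000

namespace CfsgLib.KnownC.G2Oct

open Matrix Cfsg.Lie Polynomial CfsgLib.NormalCover CfsgLib.Chev

section Nil

variable {L : Type*} [Field L] {p : ℕ} [CharP L p]

theorem nilpotent_sub_one (hp : p.Prime) {z : GL (Fin 8) L} {k : ℕ} (h : z ^ p ^ k = 1) :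
    IsNilpotent ((z : Matrix (Fin 8) (Fin 8) L) - 1) := by
  haveI : Fact p.Prime := ⟨hp⟩
  haveI : CharP (Matrix (Fin 8) (Fin 8) L) p := inferInstance
  refine ⟨p ^ k, ?_⟩
  rw [sub_pow_char_pow_of_commute p k (Commute.one_right _), one_pow, ← Units.val_pow_eq_pow_val, h,
    Units.val_one, sub_self]

theorem pow_char_of_nil (hp : p.Prime) {z : GL (Fin 8) L} {j k : ℕ} (hj : j ≤ p ^ k)
    (h : ((z : Matrix (Fin 8) (Fin 8) L) - 1) ^ j = 0) : z ^ p ^ k = 1 := by
  haveI : Fact p.Prime := ⟨hp⟩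
  haveI : CharP (Matrix (Fin 8) (Fin 8) L) p := inferInstance
  refine Units.ext ?_
  have h1 : ((z : Matrix (Fin 8) (Fin 8) L) - 1) ^ p ^ k = 0 := by
    rw [← Nat.sub_add_cancel hj, pow_add, h, mul_zero]
  rw [sub_pow_char_pow_of_commute p k (Commute.one_right _), one_pow, sub_eq_zero] at h1
  rw [Units.val_pow_eq_pow_val, h1, Units.val_one]

omit [CharP L p] in
/-- A unipotent automorphism has nilpotency index at most seven. -/
theorem seven_eq_zero (h2 : (2 : L) ≠ 0) {z : GL (Fin 8) L} (hz : z ∈ Cfsg.Lie.G2 L)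
    (hnil : IsNilpotent ((z : Matrix (Fin 8) (Fin 8) L) - 1)) : ((z : Matrix (Fin 8) (Fin 8) L) - 1) ^ 7 = 0 := by
  obtain ⟨N, hN⟩ : ∃ N : Module.End L (Fin 8 → L),
      N = Matrix.toLinAlgEquiv' ((z : Matrix (Fin 8) (Fin 8) L) - 1) := ⟨_, rfl⟩
  have hNa : ∀ x, N x = (z : Matrix (Fin 8) (Fin 8) L) *ᵥ x - x := fun x => by
    rw [hN, Matrix.toLinAlgEquiv'_apply, sub_mulVec, one_mulVec]
  have hN1 : N zOne = 0 := by rw [hNa, g2_one hz, sub_self]
  obtain ⟨U, hU⟩ : ∃ U : Submodule L (Fin 8 → L), U = LinearMap.ker (zTrL : _ →ₗ[L] L) := ⟨_, rfl⟩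
  have hle : Module.finrank L U ≤ 7 := by
    have hlt : U < ⊤ := lt_top_iff_ne_top.2 fun h => by
      have h1 : (zOne : Fin 8 → L) ∈ U := h ▸ Submodule.mem_top
      rw [hU, LinearMap.mem_ker] at h1
      exact h2 (by simpa [zTrL, zTr, zOne, one_add_one_eq_two] using h1)
    have := Submodule.finrank_lt_finrank_of_lt hlt
    simp at this
    omega
  have hinv : ∀ x ∈ U, N x ∈ U := fun x _ => by
    rw [hU, LinearMap.mem_ker]
    show zTr (N x) = 0
    rw [hNa]
    have := (g2_tr_nm hz x).1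
    simp only [zTr, Pi.sub_apply] at this ⊢
    linear_combination this
  have h : N ^ 7 = 0 := LinearMap.ext fun x => by
    obtain ⟨c, hc⟩ : ∃ c, c = (2 : L)⁻¹ * zTr x := ⟨_, rfl⟩
    have hx0 : x - c • zOne ∈ U := by
      rw [hU, LinearMap.mem_ker]
      show zTr (x - c • zOne) = 0
      simp [hc, zTr, zOne]
      field_simp
      ring
    have h := pow_eq_zero_on N (hN ▸ hnil.map Matrix.toLinAlgEquiv') U hinv hle hx0
    rwa [map_sub, map_smul, pow_succ (n := 6), Module.End.mul_apply (x := zOne), hN1, map_zero, smul_zero,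
      sub_zero, ← pow_succ] at h
  rw [hN, ← map_pow] at h
  exact (map_eq_zero_iff _ Matrix.toLinAlgEquiv'.injective).1 h

end Nil

variable {F : Type*} [Field F] [Fintype F]

/-- The isotropic case. -/
theorem iso_cases {p : ℕ} [CharP F p] (hp : p.Prime) (hp2 : p ≠ 2) {q : ℕ} (hq : Fintype.card F = q)
    {g : GL (Fin 8) F} (hg : g ∈ Cfsg.Lie.G2 F) {v : Fin 8 → F} (hv0 : v ≠ 0) (hT : zTr v = 0)
    (hN : zNm v = 0) (hgv : (g : Matrix (Fin 8) (Fin 8) F) *ᵥ v = v) :
    ∃ n ∈ fiveExp p q ∪ (if p = 3 ∨ p = 5 then ({p ^ 2} : Set ℕ) else ∅), g ^ n = 1 := by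
  classical
  haveI : Fact p.Prime := ⟨hp⟩
  have hp3 : 3 ≤ p := by have := hp.two_le; omega
  have h2 : (2 : F) ≠ 0 := fun h => hp2 ((Nat.prime_dvd_prime_iff_eq hp Nat.prime_two).1
    ((CharP.cast_eq_zero_iff F p 2).1 (by exact_mod_cast h)))
  obtain ⟨k, m, hm, hkm⟩ : ∃ k m, ¬ p ∣ m ∧ orderOf g = p ^ k * m :=
    Nat.exists_eq_pow_mul_and_not_dvd (orderOf_pos g).ne' p hp.ne_one
  obtain ⟨s, hs⟩ : ∃ s, s = g ^ p ^ k := ⟨_, rfl⟩
  have hsm : s ^ m = 1 := by rw [hs, ← pow_mul, ← hkm, pow_orderOf_eq_one]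
  have hsg : s ∈ Cfsg.Lie.G2 F := hs ▸ pow_mem hg _
  by_cases hs1 : s = 1
  · -- unipotent
    rw [hs] at hs1
    have h7 := seven_eq_zero h2 hg (nilpotent_sub_one hp hs1)
    by_cases h35 : p = 3 ∨ p = 5
    · refine ⟨p ^ 2, Or.inr (by simp [h35]), pow_char_of_nil hp ?_ h7⟩
      rcases h35 with rfl | rfl <;> norm_num
    · refine ⟨p * (q + 1), Or.inl (by simp [fiveExp]), ?_⟩
      have hp7 : 7 ≤ p ^ 1 := by
        rw [pow_one]
        push Not at h35
        by_contra hlt
        interval_cases p <;> first | omega | exact absurd hp (by norm_num)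
      have h1 := pow_char_of_nil hp hp7 h7
      rw [pow_one] at h1
      rw [pow_mul, h1, one_pow]
  have hmF : (m : F) ≠ 0 := fun h => hm ((CharP.cast_eq_zero_iff F p m).1 h)
  have hm0 : 0 < m := Nat.pos_of_ne_zero fun h => hm (h ▸ dvd_zero p)
  have hsv : (s : Matrix (Fin 8) (Fin 8) F) *ᵥ v = v := by
    have : ∀ j : ℕ, ((g ^ j : GL (Fin 8) F) : Matrix (Fin 8) (Fin 8) F) *ᵥ v = v := by
      intro j
      induction j with
      | zero => simp
      | succ j ih => rw [pow_succ, Units.val_mul, ← mulVec_mulVec, hgv, ih]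
    rw [hs]; exact this _
  -- an anisotropic vector of trace zero fixed by `s`
  obtain ⟨w, hwT, hwN, hsw⟩ : ∃ w : Fin 8 → F, zTr w = 0 ∧ zNm w ≠ 0 ∧ (s : Matrix (Fin 8) (Fin 8) F) *ᵥ w = w := by
    obtain ⟨y, hy⟩ : ∃ y, zPol v y ≠ 0 := by
      by_contra hc
      push Not at hc
      refine hv0 (funext fun i => ?_)
      have := hc (Pi.single ((![7, 4, 5, 6, 1, 2, 3, 0] : Fin 8 → Fin 8) i) 1)
      fin_cases i <;> simpa [zPol] using this
    let Y : ℕ → Fin 8 → F := fun j => ((s ^ j : GL (Fin 8) F) : Matrix (Fin 8) (Fin 8) F) *ᵥ y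
    obtain ⟨a, ha⟩ : ∃ a, a = ∑ j ∈ Finset.range m, Y j := ⟨_, rfl⟩
    have hfix : (s : Matrix (Fin 8) (Fin 8) F) *ᵥ a = a := by
      have h1 : (s : Matrix (Fin 8) (Fin 8) F) *ᵥ a = ∑ j ∈ Finset.range m, Y (j + 1) := by
        rw [ha, Matrix.mulVec_sum]
        refine Finset.sum_congr rfl fun j _ => ?_
        simp only [Y, pow_succ', Units.val_mul, mulVec_mulVec]
      have h2' := Finset.sum_range_succ' Y m
      have h3' := Finset.sum_range_succ Y m
      have h0 : Y m = Y 0 := by simp only [Y, hsm, pow_zero]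
      rw [h3', h0] at h2'
      rw [h1, ha]
      exact (add_right_cancel h2').symm
    have hpa : zPol v a = (m : F) * zPol v y := by
      have hadd : ∀ (t : Finset ℕ), zPol v (∑ j ∈ t, Y j) = ∑ j ∈ t, zPol v (Y j) := by
        intro t
        induction t using Finset.induction_on with
        | empty => simp [zPol]
        | insert j t hj ih => rw [Finset.sum_insert hj, Finset.sum_insert hj, ← ih]; simp [zPol]; ring
      have hY : ∀ j, zPol v (Y j) = zPol v y := by
        intro j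
        induction j with
        | zero => simp [Y]
        | succ j ih =>
          have h := g2_pol hsg v (Y j)
          rw [hsv] at h
          rw [← ih, ← h]
          simp only [Y, pow_succ', Units.val_mul, mulVec_mulVec]
      rw [ha, hadd, Finset.sum_congr rfl fun j _ => hY j, Finset.sum_const, Finset.card_range, nsmul_eq_mul]
    obtain ⟨b, hb⟩ : ∃ b, b = a - ((2 : F)⁻¹ * zTr a) • (zOne : Fin 8 → F) := ⟨_, rfl⟩
    have hbT : zTr b = 0 := by
      simp only [hb, zTr, Pi.sub_apply, Pi.smul_apply, smul_eq_mul]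
      simp [zOne]
      field_simp
      ring
    have hsb : (s : Matrix (Fin 8) (Fin 8) F) *ᵥ b = b := by rw [hb, mulVec_sub, mulVec_smul, g2_one hsg, hfix]
    have hvb : zPol v b ≠ 0 := by
      have : zPol v b = zPol v a := by
        have hT' : v 0 + v 7 = 0 := hT
        simp only [hb, zPol, Pi.sub_apply, Pi.smul_apply, smul_eq_mul]
        simp [zOne]
        linear_combination (-((2 : F)⁻¹ * zTr a)) * hT'
      rw [this, hpa]
      exact mul_ne_zero hmF hy
    by_cases hbN : zNm b = 0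
    · refine ⟨v + b, ?_, ?_, by rw [mulVec_add, hsv, hsb]⟩
      · simp only [zTr, Pi.add_apply] at hT hbT ⊢
        linear_combination hT + hbT
      · rwa [zNm_add, hN, hbN, zero_add, zero_add]
    · exact ⟨b, hbT, hbN, hsb⟩
  haveI : CharP (AlgebraicClosure F) p :=
    (RingHom.charP_iff _ (algebraMap F (AlgebraicClosure F)).injective p).1 inferInstance
  let K := AlgebraicClosure F
  have hK2 : (2 : K) ≠ 0 := by rw [← map_ofNat (algebraMap F K) 2]; exact (_root_.map_ne_zero _).2 h2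
  have hmK : (m : K) ≠ 0 := fun h => hm ((CharP.cast_eq_zero_iff K p m).1 h)
  obtain ⟨x, hx, hblock⟩ := exists_block h2 hq hwT hwN
  obtain ⟨S, hdS, hS, a, b, d, r1, r2, r3, hroots, htw⟩ := hblock s hsg hsw
  obtain ⟨sK, hsK⟩ : ∃ sK, sK = x * upGL F s * x⁻¹ := ⟨_, rfl⟩
  rw [← hsK] at hS
  have hcop : Nat.Coprime (p ^ k) m := Nat.Coprime.pow_left _ (hp.coprime_iff_not_dvd.2 hm)
  -- the fixed isotropic vector puts a root at one
  have hmid : midCoef S = S.trace := by
    obtain ⟨z, hz⟩ : ∃ z, z = (x : Matrix (Fin 8) (Fin 8) K) *ᵥ (algebraMap F K ∘ v) := ⟨_, rfl⟩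
    have hzfix : moveS S z = z := by
      rw [← hS, hsK, hz, Units.val_mul, Units.val_mul, ← mulVec_mulVec, gm_inv, ← mulVec_mulVec, upGL_mulVec, hsv]
    have hzT : zTr z = 0 := by
      rw [hz, (g2_tr_nm hx _).1]
      simp only [zTr, Function.comp_apply, ← map_add, show v 0 + v 7 = 0 from hT, map_zero]
    have hzN : zNm z = 0 := by
      rw [hz, (g2_tr_nm hx _).2]
      have : zNm (algebraMap F K ∘ v) = algebraMap F K (zNm v) := by simp [zNm]
      rw [this, hN, map_zero]
    have hz0 : z ≠ 0 := fun h => hv0 (funext fun i => by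
      have e := congrArg (fun y => ((x⁻¹ : GL (Fin 8) K) : Matrix (Fin 8) (Fin 8) K) *ᵥ y) (hz.symm.trans h)
      simp only [gm_inv, mulVec_zero] at e
      simpa using congrFun e i)
    have hdet : ∀ M : Matrix (Fin 3) (Fin 3) K, M.det = 1 → ∀ y : Fin 3 → K, y ≠ 0 → M *ᵥ y = y →
        midCoef M = M.trace := by
      intro M hM y hy hMy
      have h0 : (M - 1).det = 0 := Matrix.exists_mulVec_eq_zero_iff.1
        ⟨y, hy, by rw [sub_mulVec, one_mulVec, hMy, sub_self]⟩
      rw [det_fin_three] at hM h0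
      unfold midCoef
      simp [adjugate_fin_three, trace_fin_three] at h0 ⊢
      linear_combination hM - h0
    by_cases ha0 : (![z 1, z 2, z 3] : Fin 3 → K) = 0
    · by_cases hb0 : (![z 4, z 5, z 6] : Fin 3 → K) = 0
      · exfalso
        simp [funext_iff, Fin.forall_fin_succ] at ha0 hb0
        obtain ⟨z1, z2, z3⟩ := ha0
        obtain ⟨z4, z5, z6⟩ := hb0
        simp only [zTr] at hzT
        simp only [zNm, z1, z2, z3] at hzN
        have e0 : z 0 = 0 := mul_self_eq_zero.1 (by linear_combination -hzN + z 0 * hzT)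
        have e7 : z 7 = 0 := by linear_combination hzT - e0
        exact hz0 (funext fun i => by fin_cases i <;> assumption)
      · obtain ⟨f1, f2⟩ := coef_adjT hdS
        have h := hdet (adjT S) (by rw [adjT, det_transpose, det_adjugate, hdS, one_pow]) _ hb0 (funext fun i => by
          have e4 := congrFun hzfix 4
          have e5 := congrFun hzfix 5
          have e6 := congrFun hzfix 6
          simp [moveS] at e4 e5 e6
          fin_cases i <;> simp [adjT, adjugate_fin_three, Matrix.mulVec, dotProduct, Fin.sum_univ_three]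
          · linear_combination e4
          · linear_combination e5
          · linear_combination e6)
        rw [f1, f2] at h
        exact h.symm
    · exact hdet S hdS _ ha0 (funext fun i => by
        have e1 := congrFun hzfix 1
        have e2 := congrFun hzfix 2
        have e3 := congrFun hzfix 3
        simp [moveS] at e1 e2 e3
        fin_cases i <;> simp [Matrix.mulVec, dotProduct, Fin.sum_univ_three]
        · linear_combination e1
        · linear_combination e2
        · linear_combination e3)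
  have hSm : ∀ n : ℕ, S ^ (p * n) = 1 → s ^ n = 1 := by
    intro n hn
    have h1 : s ^ (p * n) = 1 := pow_eq_one_of_block (by rwa [← hsK]) hn
    have h3 : s ^ Nat.gcd m (p * n) = 1 := pow_gcd_eq_one.2 ⟨hsm, h1⟩
    have h4 : Nat.gcd m (p * n) ∣ n := by
      rw [Nat.Coprime.gcd_mul_left_cancel_right n (hp.coprime_iff_not_dvd.2 hm)]
      exact Nat.gcd_dvd_right _ _
    obtain ⟨c, hc⟩ := h4
    rw [hc, pow_mul, h3, one_pow]
  have htr : S.trace ≠ 3 := by
    intro h3
    have hall : (a ::ₘ b ::ₘ d ::ₘ 0) = ((1 : K) ::ₘ 1 ::ₘ 1 ::ₘ 0) :=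
      triple_eq (by rw [r1, h3]; norm_num) (by rw [r2, hmid, h3]; norm_num) (by rw [r3]; norm_num)
    have hone : ∀ r, r ∈ (a ::ₘ b ::ₘ d ::ₘ 0) → r ^ 1 = 1 := fun r hr => by
      rw [hall] at hr; simp at hr; rw [hr, one_pow]
    exact hs1 (by simpa using hSm 1 (pow_char_mul hp hp3 hroots (hone a (by simp)) (hone b (by simp))
      (hone d (by simp))))
  have hone : a = 1 ∨ b = 1 ∨ d = 1 := by
    have h : (a - 1) * (b - 1) * (d - 1) = 0 := by linear_combination r3 + r1 - r2 - hmid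
    rcases mul_eq_zero.1 h with h | h
    · rcases mul_eq_zero.1 h with h | h
      · exact Or.inl (sub_eq_zero.1 h)
      · exact Or.inr (Or.inl (sub_eq_zero.1 h))
    · exact Or.inr (Or.inr (sub_eq_zero.1 h))
  obtain ⟨t, ht0, ht⟩ : ∃ t : K, t ≠ 0 ∧ (a ::ₘ b ::ₘ d ::ₘ 0) = (1 ::ₘ t ::ₘ t⁻¹ ::ₘ 0) := by
    rcases hone with e | e | e
    · subst e
      exact ⟨b, left_ne_zero_of_mul_eq_one (b := d) (by linear_combination r3),
        by rw [show d = b⁻¹ from eq_inv_of_mul_eq_one_right (by linear_combination r3)]⟩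
    · subst e
      refine ⟨a, left_ne_zero_of_mul_eq_one (b := d) (by linear_combination r3), ?_⟩
      rw [show d = a⁻¹ from eq_inv_of_mul_eq_one_right (by linear_combination r3), Multiset.cons_swap a 1]
    · subst e
      refine ⟨a, left_ne_zero_of_mul_eq_one (b := b) (by linear_combination r3), ?_⟩
      rw [show b = a⁻¹ from eq_inv_of_mul_eq_one_right (by linear_combination r3), Multiset.cons_swap a⁻¹ 1 0,
        Multiset.cons_swap a 1]
  have ht1 : t ≠ 1 := fun h1 => by
    apply htr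
    have := congrArg Multiset.sum ht
    simp [h1] at this
    rw [← r1]
    linear_combination this
  have hinj : ∀ y : K, y ^ q = 1 → y = 1 := fun y hy =>
    (FiniteField.frobeniusAlgHom F K).injective (by
      rw [map_one]
      show (FiniteField.frobeniusAlgHom F K) y = 1
      rw [FiniteField.coe_frobeniusAlgHom, hq]; exact hy)
  have htq : t ^ q = t ∨ t ^ q = t⁻¹ := by
    have hmemt : t ∈ (a ::ₘ b ::ₘ d ::ₘ 0) := by rw [ht]; simp
    have key : ∀ y, y ∈ (a ::ₘ b ::ₘ d ::ₘ 0) → y = 1 ∨ y = t ∨ y = t⁻¹ := fun y hy => by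
      rw [ht] at hy; simpa using hy
    simp at hmemt
    rcases htw with h | h
    · have : t ^ q ∈ (a ::ₘ b ::ₘ d ::ₘ 0) := h ▸ by rcases hmemt with e | e | e <;> simp [e]
      rcases key _ this with e | e | e
      exacts [absurd (hinj t e) ht1, Or.inl e, Or.inr e]
    · have : (t ^ q)⁻¹ ∈ (a ::ₘ b ::ₘ d ::ₘ 0) := h ▸ by rcases hmemt with e | e | e <;> simp [e]
      rcases key _ this with e | e | e
      · exact absurd (hinj t (inv_eq_one.1 e)) ht1
      · exact Or.inr (inv_eq_iff_eq_inv.1 e)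
      · exact Or.inl (inv_injective e)
  have hq2 : 2 ≤ q := hq ▸ Fintype.one_lt_card
  obtain ⟨N, hN5, hNt⟩ : ∃ N, p * N ∈ fiveExp p q ∧ t ^ N = 1 := by
    rcases htq with e | e
    · exact ⟨q - 1, by simp [fiveExp],
        mul_right_cancel₀ ht0 (by rw [← pow_succ, Nat.sub_add_cancel (by omega), e, one_mul])⟩
    · exact ⟨q + 1, by simp [fiveExp], by rw [pow_succ, e, inv_mul_cancel₀ ht0]⟩
  have hsN : s ^ N = 1 := by
    refine hSm N ?_
    have hall : ∀ r, r ∈ (a ::ₘ b ::ₘ d ::ₘ 0) → r ^ N = 1 := fun r hr => by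
      rw [ht] at hr; simp at hr
      rcases hr with rfl | rfl | rfl
      exacts [one_pow N, hNt, by rw [inv_pow, hNt, inv_one]]
    exact pow_char_mul hp hp3 hroots (hall a (by simp)) (hall b (by simp)) (hall d (by simp))
  -- the unipotent part
  have hu : (g ^ m) ^ p = 1 := by
    obtain ⟨uK, huK⟩ : ∃ uK, uK = x * upGL F (g ^ m) * x⁻¹ := ⟨_, rfl⟩
    have hsKm : sK ^ m = 1 := by rw [hsK, conj_pow, ← map_pow, hsm, map_one, mul_one, mul_inv_cancel]
    have hcomm : sK * uK = uK * sK := by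
      have h1 : s * g ^ m = g ^ m * s := by rw [hs, ← pow_add, ← pow_add, add_comm]
      have h2' := congrArg (upGL F) h1
      rw [map_mul, map_mul] at h2'
      rw [hsK, huK]
      calc x * upGL F s * x⁻¹ * (x * upGL F (g ^ m) * x⁻¹) = x * (upGL F s * upGL F (g ^ m)) * x⁻¹ := by group
        _ = x * (upGL F (g ^ m) * upGL F s) * x⁻¹ := by rw [h2']
        _ = _ := by group
    have huk : uK ^ p ^ k = 1 := by
      rw [huK, conj_pow, ← map_pow, ← pow_mul, mul_comm, ← hkm, pow_orderOf_eq_one, map_one, mul_one,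
        mul_inv_cancel]
    have hfour := finrank_fixed (s := sK) hS hmid htr hdS
    have hcube := cube_eq_zero hK2
      (hsK ▸ mul_mem (mul_mem hx (upGL_mem hsg)) (inv_mem hx))
      (huK ▸ mul_mem (mul_mem hx (upGL_mem (pow_mem hg m))) (inv_mem hx))
      hcomm hsKm hmK (nilpotent_sub_one hp huk) hfour
    have h1 : uK ^ p ^ 1 = 1 := pow_char_of_nil hp (by rw [pow_one]; exact hp3) hcube
    rw [pow_one, huK, conj_pow, conj_eq_one_iff, ← map_pow] at h1
    exact upGL_injective (h1.trans (map_one _).symm)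
  refine ⟨p * N, Or.inl hN5, ?_⟩
  rw [← pow_mul] at hu
  rw [hs, ← pow_mul] at hsN
  have hgd : g ^ Nat.gcd (p ^ k * N) (m * p) = 1 := pow_gcd_eq_one.2 ⟨hsN, hu⟩
  have hdvd : Nat.gcd (p ^ k * N) (m * p) ∣ p * N := by
    have h := Nat.dvd_gcd
      ((Nat.gcd_dvd_left (p ^ k * N) (m * p)).trans ⟨p, rfl⟩)
      ((Nat.gcd_dvd_right (p ^ k * N) (m * p)).trans ⟨N, rfl⟩)
    rw [mul_assoc, mul_assoc, mul_comm N p, Nat.gcd_mul_right, hcop.gcd_eq_one, one_mul] at h
    exact h
  obtain ⟨c, hc⟩ := hdvd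
  rw [hc, pow_mul, hgd, one_pow]

/-- Every element of the adjoint group over a field of odd order. -/
theorem chev_g2_cases {p : ℕ} [CharP F p] (hp : p.Prime) (hp2 : p ≠ 2) {q : ℕ} (hq : Fintype.card F = q)
    {X : GL chevG2.Idx F} (hX : X ∈ chevG2.group F) :
    ∃ n ∈ fiveExp p q ∪ (if p = 3 ∨ p = 5 then ({p ^ 2} : Set ℕ) else ∅), X ^ n = 1 := by
  have h2 : (2 : F) ≠ 0 := fun h => hp2 ((Nat.prime_dvd_prime_iff_eq hp Nat.prime_two).1
    ((CharP.cast_eq_zero_iff F p 2).1 (by exact_mod_cast h)))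
  obtain ⟨g, hg, hd, hpow⟩ := exists_oct h2 hX
  obtain ⟨v, hv0, hvT, hgv⟩ := exists_fixed_pure h2 hg hd
  by_cases hN : zNm v = 0
  · obtain ⟨n, hn, hgn⟩ := iso_cases hp hp2 hq hg hv0 hvT hN hgv
    exact ⟨n, hn, hpow n hgn⟩
  · obtain ⟨n, hn, hgn⟩ := aniso_cases hp hp2 hq hg hvT hN hgv
    exact ⟨n, Or.inl hn, hpow n hgn⟩

end CfsgLib.KnownC.G2Oct
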