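import Mathlib
import Cfsg.Agent.Lib.Chev.G2SL3
import Cfsg.Agent.Lib.Chev.G2Torus
import Cfsg.Agent.Lib.Chev.SL2Hom
import Cfsg.Agent.Lib.Chev.CommSmall
import Cfsg.Agent.Lib.Chev.SpringerTorusInst
import Cfsg.Agent.Lib.Chev.ChevGenTwo
import Cfsg.Agent.Lib.KnownC.G2Oct.Main

/-!
Elements of maximal order in the adjoint group of type `G₂` over a finite field of odd order, and the
resulting description of the orders that are maximal under divisibility.
-/

set_option autoImplicit false
set_option maxHeartbeats 1000000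
set_option maxRecDepth 100000

namespace CfsgLib.KnownC.G2Oct

open Matrix Cfsg.Lie Polynomial CfsgLib.Chev CfsgLib.Chev.G2SL3

variable {F : Type*} [Field F]

/-- The rank-one subgroup of the long simple root inside `SL₃`. -/
def cornerHom : Matrix.SpecialLinearGroup (Fin 2) F →* Matrix.SpecialLinearGroup (Fin 3) F where
  toFun M := ⟨!![M.1 0 0, M.1 0 1, 0; M.1 1 0, M.1 1 1, 0; 0, 0, 1], by
    have h := M.2
    rw [det_fin_two] at h
    simp [det_fin_three]
    linear_combination h⟩
  map_one' := Subtype.ext (by ext i j; fin_cases i <;> fin_cases j <;> simp)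
  map_mul' M N := Subtype.ext (by
    refine Eq.trans ?_ (Matrix.SpecialLinearGroup.coe_mul _ _).symm
    ext i j
    fin_cases i <;> fin_cases j <;> simp [Matrix.mul_apply, Fin.sum_univ_two, Fin.sum_univ_three, Matrix.SpecialLinearGroup.coe_mul])

theorem cornerHom_val (M : Matrix.SpecialLinearGroup (Fin 2) F) :
    (cornerHom M).1 = !![M.1 0 0, M.1 0 1, 0; M.1 1 0, M.1 1 1, 0; 0, 0, 1] := rfl

theorem xG_nine_comm {r : ℕ} (hr : r = 5 ∨ r = 6) (t u : F) :
    Commute (goodG2.xG 9 u : GL chevG2.Idx F) (goodG2.xG r t) := by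
  have h9 : (9 : ℕ) < chevG2.nroots := by decide
  have hlt : r < chevG2.nroots := by rcases hr with rfl | rfl <;> decide
  have hne : (9 : ℕ) ≠ r ∧ (9 : ℕ) ≠ chevG2.neg r ∧ fterms chevG2 r 9 = [] := by
    rcases hr with rfl | rfl <;> decide +kernel
  have h := goodG2.comm_formula ⟨false, commG2⟩ hlt h9 hne.1 hne.2.1 t u
  rw [ChevalleyDatum.commWord, ← goodG2.fterms_eq hlt h9, hne.2.2, List.map_nil] at h
  refine Units.ext ?_
  simp only [Units.val_mul, goodG2.coe_xG]
  simpa [ChevalleyDatum.wordMat] using h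

theorem xG_nine_commute_corner (u : F) (M : Matrix.SpecialLinearGroup (Fin 2) F) :
    Commute (goodG2.xG 9 u : GL chevG2.Idx F) (psi F (cornerHom M)) := by
  have htop : Subgroup.closure (Set.range (slU (F := F)) ∪ Set.range slL) ≤
      (Subgroup.centralizer {(goodG2.xG 9 u : GL chevG2.Idx F)}).comap ((psi F).comp cornerHom) := by
    rw [Subgroup.closure_le]
    rintro _ (⟨t, rfl⟩ | ⟨t, rfl⟩)
    · have e : cornerHom (slU t) = Matrix.SpecialLinearGroup.transvection (show (0 : Fin 3) ≠ 1 by decide) t :=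
        Subtype.ext (by
          rw [Matrix.SpecialLinearGroup.transvection_coe]
          ext i j; fin_cases i <;> fin_cases j <;> simp [cornerHom, slU, MonoidHom.coe_mk, OneHom.coe_mk] <;> rfl)
      show psi F (cornerHom (slU t)) ∈ Subgroup.centralizer {(goodG2.xG 9 u : GL chevG2.Idx F)}
      rw [e, psi_transvection, Subgroup.mem_centralizer_singleton_iff]
      exact (xG_nine_comm (Or.inr rfl) t u).eq.symm
    · have e : cornerHom (slL t) = Matrix.SpecialLinearGroup.transvection (show (1 : Fin 3) ≠ 0 by decide) t :=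
        Subtype.ext (by
          rw [Matrix.SpecialLinearGroup.transvection_coe]
          ext i j; fin_cases i <;> fin_cases j <;> simp [cornerHom, slL, MonoidHom.coe_mk, OneHom.coe_mk] <;> rfl)
      show psi F (cornerHom (slL t)) ∈ Subgroup.centralizer {(goodG2.xG 9 u : GL chevG2.Idx F)}
      rw [e, psi_transvection, Subgroup.mem_centralizer_singleton_iff]
      exact (xG_nine_comm (Or.inl rfl) t u).eq.symm
  rw [closure_slU_slL] at htop
  have := htop (Subgroup.mem_top M)
  exact (Subgroup.mem_centralizer_singleton_iff.1 this).symm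

section Quadratic

variable {K : Type*} [Field K] [Algebra F K]

/-- Multiplication by a unit of a quadratic extension, as a block of determinant one. -/
noncomputable def quadHom (b : Module.Basis (Fin 2) F K) : Kˣ →* Matrix.SpecialLinearGroup (Fin 3) F where
  toFun a :=
    ⟨!![Algebra.leftMulMatrix b (a : K) 0 0, Algebra.leftMulMatrix b (a : K) 0 1, 0;
        Algebra.leftMulMatrix b (a : K) 1 0, Algebra.leftMulMatrix b (a : K) 1 1, 0;
        0, 0, (Algebra.leftMulMatrix b (a : K)).det⁻¹], by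
      have hne : (Algebra.leftMulMatrix b (a : K)).det ≠ 0 := by
        intro h0
        have h := congrArg (fun M => Matrix.det M) (map_mul (Algebra.leftMulMatrix b) (a : K) ((a⁻¹ : Kˣ) : K))
        simp only [det_mul, h0, zero_mul, ← Units.val_mul, mul_inv_cancel, Units.val_one, map_one, det_one] at h
        exact one_ne_zero h
      rw [det_fin_three]
      simp
      rw [det_fin_two] at hne ⊢
      field_simp⟩
  map_one' := Subtype.ext (by ext i j; fin_cases i <;> fin_cases j <;> simp [map_one])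
  map_mul' a c := Subtype.ext (by
    refine Eq.trans ?_ (Matrix.SpecialLinearGroup.coe_mul _ _).symm
    ext i j
    fin_cases i <;> fin_cases j <;>
      simp [map_mul, Matrix.SpecialLinearGroup.coe_mul, Matrix.mul_apply, Fin.sum_univ_two, Fin.sum_univ_three, det_mul, mul_comm])

theorem quadHom_val (b : Module.Basis (Fin 2) F K) (a : Kˣ) : (quadHom b a).1 =
    !![Algebra.leftMulMatrix b (a : K) 0 0, Algebra.leftMulMatrix b (a : K) 0 1, 0;
       Algebra.leftMulMatrix b (a : K) 1 0, Algebra.leftMulMatrix b (a : K) 1 1, 0;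
       0, 0, (Algebra.leftMulMatrix b (a : K)).det⁻¹] := rfl

theorem quadHom_injective (b : Module.Basis (Fin 2) F K) : Function.Injective (quadHom b) := by
  intro a c h
  refine Units.ext (Algebra.leftMulMatrix_injective b (Matrix.ext fun i j => ?_))
  have := congrArg (fun M : Matrix.SpecialLinearGroup (Fin 3) F => M.1 i.castSucc j.castSucc) h
  simp only [quadHom_val] at this
  fin_cases i <;> fin_cases j <;> simpa using this

theorem quadHom_corner (b : Module.Basis (Fin 2) F K) (a : Kˣ)
    (h : (Algebra.leftMulMatrix b (a : K)).det = 1) :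
    quadHom b a = cornerHom ⟨Algebra.leftMulMatrix b (a : K), h⟩ := by
  refine Subtype.ext ?_
  rw [quadHom_val]
  refine Eq.trans ?_ (cornerHom_val _).symm
  ext i j
  fin_cases i <;> fin_cases j <;> simp [h]

end Quadratic

variable [Fintype F] {p : ℕ} [CharP F p]

theorem orderOf_xG (hp : p.Prime) {r : ℕ} (hr : r < chevG2.nroots) (hne : (goodG2.xG r (1 : F) : GL chevG2.Idx F) ≠ 1) :
    orderOf (goodG2.xG r (1 : F) : GL chevG2.Idx F) = p := by
  haveI : Fact p.Prime := ⟨hp⟩
  refine orderOf_eq_prime ?_ hne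
  rw [goodG2.xG_pow_eq, CharP.cast_eq_zero, zero_mul, goodG2.xG_zero]

theorem xG_nine_ne : (goodG2.xG 9 (1 : F) : GL chevG2.Idx F) ≠ 1 := by
  intro h
  have e := congrArg (fun M : GL chevG2.Idx F => (M : Matrix chevG2.Idx chevG2.Idx F)
    (Sum.inr (⟨9, by decide⟩ : Fin chevG2.nroots)) (Sum.inl (⟨1, by decide⟩ : Fin chevG2.rank))) h
  simp only [goodG2.coe_xG, Units.val_one] at e
  rw [ChevalleyDatum.x, dif_pos (by decide : (9 : ℕ) < chevG2.nroots)] at e
  have hA : -((chevG2.cartanSR.getD 0 #[]).getD 9 0 : ℤ) = -1 := by decide +kernel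
  have hB : -((chevG2.cartanSR.getD 1 #[]).getD 9 0 : ℤ) = 0 := by decide +kernel
  have e' := congrArg (fun M : GL chevG2.Idx F => (M : Matrix chevG2.Idx chevG2.Idx F)
    (Sum.inr (⟨9, by decide⟩ : Fin chevG2.nroots)) (Sum.inl (⟨0, by decide⟩ : Fin chevG2.rank))) h
  simp only [goodG2.coe_xG, Units.val_one] at e'
  rw [ChevalleyDatum.x, dif_pos (by decide : (9 : ℕ) < chevG2.nroots)] at e'
  simp only [ChevalleyDatum.xMat, Matrix.of_apply, if_true, ← Int.cast_neg, hA, Int.cast_one, mul_one,
    Matrix.one_apply, reduceCtorEq, if_false] at e'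
  simp at e'

/-- An element of order `q² - 1`, one of order `p (q + 1)`. -/
theorem exists_quad_orders (hp : p.Prime) {q : ℕ} (hq : Fintype.card F = q) (hcop : Nat.Coprime p (q + 1)) :
    (∃ X ∈ chevG2.group F, orderOf X = q ^ 2 - 1) ∧ ∃ X ∈ chevG2.group F, orderOf X = p * (q + 1) := by
  haveI : Fact p.Prime := ⟨hp⟩
  let E := FiniteField.Extension F p 2
  have : Fintype E := Fintype.ofFinite E
  have hE : Fintype.card E = q ^ 2 := by
    rw [← Nat.card_eq_fintype_card, FiniteField.natCard_extension, Nat.card_eq_fintype_card, hq]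
  have hq1 : 1 < q := hq ▸ Fintype.one_lt_card
  have hfr : Module.finrank F E = 2 := by
    have h := Module.card_eq_pow_finrank (K := F) (V := E)
    rw [hE, hq] at h
    exact (Nat.pow_right_injective hq1 h).symm
  let b : Module.Basis (Fin 2) F E := Module.finBasisOfFinrankEq F E hfr
  obtain ⟨ζ, hζ⟩ := IsCyclic.exists_ofOrder_eq_natCard (α := Eˣ)
  have hζo : orderOf ζ = (q + 1) * (q - 1) := by
    rw [hζ, Nat.card_units, Nat.card_eq_fintype_card, hE, ← Nat.sq_sub_sq, one_pow]
  refine ⟨⟨psi F (quadHom b ζ), psi_mem _, ?_⟩, ?_⟩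
  · rw [orderOf_injective _ psi_injective, orderOf_injective _ (quadHom_injective b), hζo, ← Nat.sq_sub_sq,
      one_pow]
  obtain ⟨e, he⟩ : ∃ e, e = ζ ^ (q - 1) := ⟨_, rfl⟩
  have heo : orderOf e = q + 1 := by
    rw [he, orderOf_pow' ζ (by omega), hζo, Nat.gcd_mul_left_left, Nat.mul_div_cancel _ (by omega)]
  have hdet : (Algebra.leftMulMatrix b (e : E)).det = 1 := by
    rw [he, Units.val_pow_eq_pow_val, map_pow, det_pow, ← hq]
    refine FiniteField.pow_card_sub_one_eq_one _ ?_
    intro h0
    have h := congrArg (fun M => Matrix.det M) (map_mul (Algebra.leftMulMatrix b) (ζ : E) ((ζ⁻¹ : Eˣ) : E))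
    simp only [det_mul, h0, zero_mul, ← Units.val_mul, mul_inv_cancel, Units.val_one, map_one, det_one] at h
    exact one_ne_zero h
  refine ⟨goodG2.xG 9 1 * psi F (quadHom b e), mul_mem (goodG2.xG_mem_group (by decide) 1) (psi_mem _), ?_⟩
  have hc : Commute (goodG2.xG 9 (1 : F) : GL chevG2.Idx F) (psi F (quadHom b e)) := by
    rw [quadHom_corner b e hdet]
    exact xG_nine_commute_corner 1 _
  have o1 := orderOf_xG (F := F) hp (r := 9) (by decide) xG_nine_ne
  have o2 : orderOf (psi F (quadHom b e)) = q + 1 := by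
    rw [orderOf_injective _ psi_injective, orderOf_injective _ (quadHom_injective b), heo]
  rw [hc.orderOf_mul_eq_mul_orderOf_of_coprime (by rw [o1, o2]; exact hcop), o1, o2]

/-- An element of order `p (q - 1)`. -/
theorem exists_order_minus (hp : p.Prime) {q : ℕ} (hq : Fintype.card F = q) :
    ∃ X ∈ chevG2.group F, orderOf X = p * (q - 1) := by
  haveI : Fact p.Prime := ⟨hp⟩
  obtain ⟨a, ha⟩ := IsCyclic.exists_ofOrder_eq_natCard (α := Fˣ)
  rw [Nat.card_units, Nat.card_eq_fintype_card, hq] at ha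
  let A : Fˣ → F → Matrix.SpecialLinearGroup (Fin 3) F := fun c t =>
    ⟨!![(c : F), t, 0; 0, (c : F), 0; 0, 0, (((c * c)⁻¹ : Fˣ) : F)], by simp [det_fin_three]; field_simp⟩
  have hmul : ∀ (c d : Fˣ) (t u : F), A c t * A d u = A (c * d) ((c : F) * u + t * (d : F)) := by
    intro c d t u
    refine Subtype.ext ?_
    show (A c t).1 * (A d u).1 = _
    ext i j
    fin_cases i <;> fin_cases j <;> simp [A, Matrix.mul_apply, Fin.sum_univ_three] <;> ring
  have hone : A 1 0 = 1 := Subtype.ext (by ext i j; fin_cases i <;> fin_cases j <;> simp [A])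
  have hpow : ∀ n : ℕ, A a 1 ^ n = A (a ^ n) ((n : F) * (a : F) ^ (n - 1)) := by
    intro n
    induction n with
    | zero => simp [hone]
    | succ n ih =>
      rw [pow_succ, ih, hmul, pow_succ]
      congr 1
      rcases n with _ | n
      · simp
      · simp [pow_succ]; ring
  refine ⟨psi F (A a 1), psi_mem _, ?_⟩
  rw [orderOf_injective _ psi_injective]
  have hq1 : 1 < q := hq ▸ Fintype.one_lt_card
  have hcop : Nat.Coprime p (q - 1) := by
    refine hp.coprime_iff_not_dvd.2 fun h => ?_
    obtain ⟨k, -, hk⟩ := FiniteField.card F p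
    have h2 : p ∣ q := by rw [← hq, hk]; exact dvd_pow_self p k.2.ne'
    have := Nat.dvd_sub h2 h
    rw [show q - (q - 1) = 1 by omega] at this
    exact hp.not_dvd_one this
  refine Nat.dvd_antisymm (orderOf_dvd_of_pow_eq_one ?_) ?_
  · rw [hpow, Nat.cast_mul, CharP.cast_eq_zero, zero_mul, zero_mul, mul_comm p, pow_mul, ← ha,
      pow_orderOf_eq_one, one_pow, hone]
  · have h := pow_orderOf_eq_one (A a 1)
    rw [hpow] at h
    revert h
    generalize orderOf (A a 1) = n
    intro h
    have e0 := congrArg (fun M : Matrix.SpecialLinearGroup (Fin 3) F => M.1 0 0) h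
    have e1 := congrArg (fun M : Matrix.SpecialLinearGroup (Fin 3) F => M.1 0 1) h
    simp [A] at e0 e1
    refine hcop.mul_dvd_of_dvd_of_dvd ?_ ?_
    · refine (CharP.cast_eq_zero_iff F p _).1 ?_
      exact e1
    · rw [← ha]; exact orderOf_dvd_of_pow_eq_one (Units.ext (by simpa using e0))

/-- An element of order `q² + q + 1`. -/
theorem exists_order_three {q : ℕ} (hq : Fintype.card F = q) (h3 : 3 ≤ q) :
    ∃ X ∈ chevG2.group F, orderOf X = q ^ 2 + q + 1 := by
  obtain ⟨H, hH, hcard, -⟩ := CfsgLib.Chev.G2Torus.exists_torus F q hq h3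
  obtain ⟨h, hh⟩ := IsCyclic.exists_ofOrder_eq_natCard (α := ↥H)
  exact ⟨_, (h : ↥(chevG2.group F)).2, by rw [Subgroup.orderOf_coe, Subgroup.orderOf_coe, hh, hcard]⟩

/-- An element of order `q² - q + 1`. -/
theorem exists_order_six {q : ℕ} (hq : Fintype.card F = q) (h3 : 3 ≤ q) :
    ∃ X ∈ chevG2.group F, orderOf X = q ^ 2 - q + 1 := by
  have hle : q ≤ q ^ 2 := Nat.le_self_pow two_ne_zero q
  obtain ⟨N, hN⟩ : ∃ N, N = q ^ 2 - q + 1 := ⟨_, rfl⟩
  have hNz : (cyclotomic 6 ℤ).eval (q : ℤ) = (N : ℤ) := by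
    rw [cyclotomic_six, hN, Nat.cast_add, Nat.cast_sub hle]
    simp
  have hz : ∀ s : ℕ, s ∣ N → ((q : ZMod s) ^ 2 - q + 1) = 0 := fun s hs => by
    have h : ((N : ℤ) : ZMod s) = 0 := by rw [Int.cast_natCast, ZMod.natCast_eq_zero_iff]; exact hs
    rw [← hNz, cyclotomic_six] at h
    simpa using h
  have h2 : ¬ 2 ∣ N := fun h => by
    have := hz 2 h; revert this; generalize (q : ZMod 2) = x; revert x; decide
  have h9 : ¬ 9 ∣ N := fun h => by
    have := hz 9 h; revert this; generalize (q : ZMod 9) = x; revert x; decide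
  have hbig : 7 ≤ N := by
    have : 3 * q ≤ q ^ 2 := by rw [pow_two]; exact Nat.mul_le_mul_right q h3
    omega
  obtain ⟨r, hr, hrN, hr3⟩ : ∃ r : ℕ, r.Prime ∧ r ∣ N ∧ 3 < r := by
    by_cases h3N : 3 ∣ N
    · obtain ⟨M, hM⟩ := h3N
      have hM1 : M ≠ 1 := by omega
      refine ⟨M.minFac, Nat.minFac_prime hM1, M.minFac_dvd.trans ⟨3, by omega⟩, ?_⟩
      have hp' := Nat.minFac_prime hM1
      have hdN : M.minFac ∣ N := M.minFac_dvd.trans ⟨3, by omega⟩
      rcases Nat.lt_or_ge 3 M.minFac with h | h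
      · exact h
      exfalso
      have h23 : M.minFac = 2 ∨ M.minFac = 3 := by have := hp'.two_le; omega
      rcases h23 with e | e
      · exact h2 (e ▸ hdN)
      · exact h9 (hM ▸ mul_dvd_mul_left 3 (e ▸ M.minFac_dvd))
    · refine ⟨N.minFac, Nat.minFac_prime (by omega), N.minFac_dvd, ?_⟩
      have hp' := Nat.minFac_prime (show N ≠ 1 by omega)
      rcases Nat.lt_or_ge 3 N.minFac with h | h
      · exact h
      exfalso
      have h23 : N.minFac = 2 ∨ N.minFac = 3 := by have := hp'.two_le; omega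
      rcases h23 with e | e
      · exact h2 (e ▸ N.minFac_dvd)
      · exact h3N (e ▸ N.minFac_dvd)
  haveI := Fact.mk hr
  obtain ⟨H, hH, hcard, -⟩ := Springer.exists_torus (d := 6) (r := r) goodG2 ⟨false, commG2⟩
    (mul_eq_one_comm.1 cartanG2_mul_inv) F q hq (by decide +kernel) (by norm_num)
    (by rw [hNz]; exact_mod_cast hrN)
    (fun h => by have := Nat.le_of_dvd (by norm_num) h; interval_cases r <;> first | omega | norm_num at h hr)
    (fun h => by
      rw [card_weylG2] at h
      have h' : r ∣ 2 ^ 2 * 3 := by simpa using h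
      rcases hr.dvd_mul.1 h' with e | e
      · have := Nat.le_of_dvd (by norm_num) (hr.dvd_of_dvd_pow e); omega
      · have := Nat.le_of_dvd (by norm_num) e; omega)
    (fun s hs hsd => by
      have hs' : s = 2 ∨ s = 3 := by
        have := Nat.le_of_dvd (by norm_num) hsd
        interval_cases s <;> first | omega | norm_num at hs | norm_num at hsd
      rw [hNz, ← Nat.cast_pow, Int.natCast_dvd_natCast]
      rcases hs' with rfl | rfl
      · exact fun h => h2 ((dvd_pow_self 2 two_ne_zero).trans h)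
      · exact h9)
    (by
      have h6 : r ∣ q ^ 6 - 1 := by
        have h := Polynomial.eval_dvd (cyclotomic.dvd_X_pow_sub_one 6 ℤ) (x := (q : ℤ))
        rw [hNz, eval_sub, eval_pow, eval_X, eval_one] at h
        have h' : (N : ℤ) ∣ ((q ^ 6 - 1 : ℕ) : ℤ) := by
          rw [Nat.cast_sub (Nat.one_le_pow _ _ (by omega))]
          simpa using h
        exact hrN.trans (Int.natCast_dvd_natCast.1 h')
      have h := card_groupG2 F
      rw [one_mul, hq] at h
      rw [h]
      exact dvd_mul_of_dvd_right h6 _)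
  obtain ⟨h, hh⟩ := IsCyclic.exists_ofOrder_eq_natCard (α := ↥H)
  exact ⟨_, (h : ↥(chevG2.group F)).2,
    by rw [Subgroup.orderOf_coe, Subgroup.orderOf_coe, hh, hcard, hNz, Int.natAbs_natCast, hN]⟩

end CfsgLib.KnownC.G2Oct
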