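import Mathlib
import Cfsg.Agent.Lib.KnownC.G2Oct.Elements

/-!
The element orders of `G₂(q)`, `q` odd, that are maximal under divisibility.
-/

set_option autoImplicit false
set_option maxHeartbeats 1000000
set_option maxRecDepth 100000

namespace CfsgLib.KnownC.G2Oct

open Matrix Cfsg.Lie CfsgLib.Chev

/-- A vector from a list. -/
def vecOf (l : List ℤ) (c : chevG2.Idx) : ℤ := l.getD (Sum.elim (fun j => j.val) (fun u => 2 + u.val) c) 0

/-- The image of a vector under a root element at one, modulo `p`, is a given vector. -/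
noncomputable def stepOK (p : ℤ) (r : ℕ) (v w : List ℤ) : Bool :=
  allIdx.all fun c => ((allIdx.map fun b => ((List.range 4).map fun k => coefK r k c b).sum * vecOf v b).sum
    - vecOf w c) % p == 0

/-- Alternating steps along a list of vectors. -/
noncomputable def chainOK (p : ℤ) : List (List ℤ) → Bool
  | u :: v :: w :: l => stepOK p 6 u v && stepOK p 7 v w && chainOK p (w :: l)
  | _ => true

/-- Witness for `p = 3`. -/
def seqThree : List (List ℤ) := [[1, 0, 0, 0, 0, 0, 0, 0, 0, 0, 0, 0, 0, 0], [1, 0, 0, 0, 0, 0, 0, 0, 0, 0, 0, 0, 0, 0], [1, 0, 0, 0, 0, 0, 0, 0, 0, 1, 0, 0, 0, 0], [1, 0, 0, 0, 0, 0, 0, 0, 0, 1, 1, 0, 0, 0], [1, 0, 0, 0, 0, 0, 0, 0, 0, 2, 1, 1, 0, 0], [1, 0, 0, 0, 0, 0, 0, 0, 0, 2, 0, 1, 0, 0], [1, 0, 0, 0, 0, 0, 0, 0, 0, 0, 0, 1, 0, 0]]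

/-- Witness for `p = 5`. -/
def seqFive : List (List ℤ) := [[0, 1, 0, 0, 0, 0, 0, 0, 0, 0, 0, 0, 0, 0], [0, 1, 0, 0, 0, 0, 0, 0, 3, 0, 0, 0, 0, 0], [0, 1, 0, 0, 0, 0, 0, 0, 3, 1, 2, 3, 3, 0], [0, 1, 0, 0, 0, 0, 0, 0, 1, 1, 3, 3, 3, 3], [0, 1, 0, 0, 0, 0, 0, 0, 1, 2, 2, 3, 4, 3], [0, 1, 0, 0, 0, 0, 0, 0, 4, 2, 4, 3, 4, 2], [0, 1, 0, 0, 0, 0, 0, 0, 4, 3, 0, 4, 0, 2], [0, 1, 0, 0, 0, 0, 0, 0, 2, 3, 3, 4, 0, 2], [0, 1, 0, 0, 0, 0, 0, 0, 2, 4, 1, 0, 0, 2], [0, 1, 0, 0, 0, 0, 0, 0, 0, 4, 0, 0, 0, 2], [0, 1, 0, 0, 0, 0, 0, 0, 0, 0, 0, 0, 0, 2]]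

theorem chain_three : chainOK 3 seqThree = true := by decide +kernel

theorem chain_five : chainOK 5 seqFive = true := by decide +kernel

variable {F : Type*} [Field F]

theorem stepOK_spec {p : ℕ} [CharP F p] {r : ℕ} (hr : r < chevG2.nroots) {v w : List ℤ}
    (h : stepOK p r v w = true) :
    (goodG2.xG r (1 : F) : Matrix chevG2.Idx chevG2.Idx F) *ᵥ (fun b => (vecOf v b : F)) =
      fun c => (vecOf w c : F) := by
  funext c
  rw [stepOK, List.all_eq_true] at h
  have hc : c ∈ allIdx := by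
    rcases c with j | u <;> simp [allIdx]
  have h1 := (CharP.intCast_eq_zero_iff F p _).2 (Int.dvd_of_emod_eq_zero (beq_iff_eq.1 (h c hc)))
  rw [Int.cast_sub, sub_eq_zero] at h1
  rw [← h1, allIdx_sum, Int.cast_sum, goodG2.coe_xG, goodG2.x_eq_xr hr]
  simp only [Matrix.mulVec, dotProduct, Int.cast_mul]
  refine Finset.sum_congr rfl fun b _ => ?_
  congr 1
  simp [List.range_succ, coefK, xr, amat, Matrix.one_apply, add_assoc]

theorem chainOK_spec {p : ℕ} [CharP F p] : ∀ (n : ℕ) (l : List (List ℤ)) (v₀ : List ℤ),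
    l.length = 2 * n → chainOK p (v₀ :: l) = true →
      ((goodG2.xG 7 (1 : F) * goodG2.xG 6 1) ^ n : GL chevG2.Idx F).1 *ᵥ (fun b => (vecOf v₀ b : F)) =
        fun c => (vecOf ((v₀ :: l).getLast (List.cons_ne_nil _ _)) c : F) := by
  intro n
  induction n with
  | zero =>
    intro l v₀ hl _
    obtain rfl := List.length_eq_zero_iff.1 hl
    simp
  | succ n ih =>
    intro l v₀ hl hok
    rcases l with _ | ⟨v, _ | ⟨w, l⟩⟩
    · simp at hl
    · simp at hl; omega
    · simp only [chainOK, Bool.and_eq_true] at hok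
      obtain ⟨⟨h6, h7⟩, hrest⟩ := hok
      rw [pow_succ, Units.val_mul, ← mulVec_mulVec, Units.val_mul, ← mulVec_mulVec,
        stepOK_spec (by decide) h6, stepOK_spec (by decide) h7, ih l w (by simp at hl; omega) hrest]
      simp

/-- A regular unipotent element has order `p²` for `p = 3, 5`. -/
theorem exists_order_sq [Fintype F] {p : ℕ} [CharP F p] (hp : p.Prime) (h35 : p = 3 ∨ p = 5) {q : ℕ}
    (hq : Fintype.card F = q) (hnd : ∀ n ∈ fiveExp p q, ¬ p ^ 2 ∣ n) :
    ∃ X ∈ chevG2.group F, orderOf X = p ^ 2 := by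
  haveI : Fact p.Prime := ⟨hp⟩
  have hne : (goodG2.xG 7 (1 : F) * goodG2.xG 6 1 : GL chevG2.Idx F) ^ p ≠ 1 := by
    intro h
    rcases h35 with rfl | rfl
    · have e := chainOK_spec (F := F) (p := 3) 3 seqThree.tail seqThree.head! rfl chain_three
      rw [h, Units.val_one, one_mulVec] at e
      have e' := congrFun e (Sum.inr (⟨9, by decide⟩ : Fin chevG2.nroots))
      simp [seqThree, vecOf] at e'
    · have e := chainOK_spec (F := F) (p := 5) 5 seqFive.tail seqFive.head! rfl chain_five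
      rw [h, Units.val_one, one_mulVec] at e
      have e' := congrFun e (Sum.inr (⟨11, by decide⟩ : Fin chevG2.nroots))
      simp [seqFive, vecOf] at e'
      exact absurd ((CharP.cast_eq_zero_iff F 5 2).1 (by exact_mod_cast e'.symm)) (by norm_num)
  obtain ⟨X, hX⟩ : ∃ X, X = (goodG2.xG 7 (1 : F) * goodG2.xG 6 1 : GL chevG2.Idx F) := ⟨_, rfl⟩
  rw [← hX] at hne
  have hXm : X ∈ chevG2.group F :=
    hX ▸ mul_mem (goodG2.xG_mem_group (by decide) 1) (goodG2.xG_mem_group (by decide) 1)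
  obtain ⟨n, hn, hXn⟩ := chev_g2_cases hp (by rcases h35 with rfl | rfl <;> norm_num) hq hXm
  have hXu : X ∈ chevG2.posUnipotent F := hX ▸ mul_mem
    (goodG2.xG_mem_posUnipotent ((goodG2.isPosRoot_iff 7).2 (by decide)) 1)
    (goodG2.xG_mem_posUnipotent ((goodG2.isPosRoot_iff 6).2 (by decide)) 1)
  obtain ⟨k, _, hk⟩ := FiniteField.card F p
  have hdvd : orderOf X ∣ p ^ ((k : ℕ) * (chevG2.nroots / 2)) := by
    have h := orderOf_dvd_natCard (⟨X, hXu⟩ : ↥(chevG2.posUnipotent F))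
    rw [goodG2.card_posUnipotent (hasComm_of_mem (by simp)), hk, ← pow_mul, ← Subgroup.orderOf_coe] at h
    exact h
  obtain ⟨j, _, hj⟩ := (Nat.dvd_prime_pow hp).1 hdvd
  have hj2 : 2 ≤ j := by
    by_contra hlt
    exact hne (orderOf_dvd_iff_pow_eq_one.1 (hj ▸ (pow_dvd_pow p (by omega : j ≤ 1)).trans (by rw [pow_one])))
  have hdn : p ^ 2 ∣ n := (pow_dvd_pow p hj2).trans (hj ▸ orderOf_dvd_of_pow_eq_one hXn)
  rw [Set.mem_union, if_pos h35, Set.mem_singleton_iff] at hn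
  obtain rfl := hn.resolve_left fun h => hnd n h hdn
  exact ⟨X, hXm, orderOf_eq_prime_pow (n := 1) (by rwa [pow_one]) hXn⟩

theorem mem_fiveExp {p q x : ℕ} (h : x ∈ fiveExp p q) :
    x = p * (q + 1) ∨ x = p * (q - 1) ∨ x = q ^ 2 - 1 ∨ x = q ^ 2 + q + 1 ∨ x = q ^ 2 - q + 1 := by
  simpa [fiveExp, or_assoc] using h

/-- The five exponents are not divisible by `p²`, and nor do they divide each other or `p²`. -/
theorem fiveExp_arith {p q : ℕ} (hp : p.Prime) (hp2 : p ≠ 2) (hpq : p ∣ q) (hq : 5 ≤ q) :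
    (∀ n ∈ fiveExp p q, ¬ p ^ 2 ∣ n ∧ ¬ n ∣ p ^ 2) ∧ ∀ x ∈ fiveExp p q, ∀ y ∈ fiveExp p q, x ∣ y → x = y := by
  have hp3 : 3 ≤ p := by have := hp.two_le; omega
  have hsq : 5 * q ≤ q ^ 2 := by rw [pow_two]; exact Nat.mul_le_mul_right q hq
  have hq2 : p ∣ q ^ 2 := dvd_pow hpq two_ne_zero
  have h1 : ¬ p ∣ 1 := fun h => by have := Nat.le_of_dvd one_pos h; omega
  have nA : ¬ p ∣ q + 1 := fun h => h1 (by simpa using Nat.dvd_sub h hpq)
  have nB : ¬ p ∣ q - 1 := fun h => h1 (by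
    have := Nat.dvd_sub hpq h; rwa [show q - (q - 1) = 1 by omega] at this)
  have nC : ¬ p ∣ q ^ 2 - 1 := fun h => h1 (by
    have := Nat.dvd_sub hq2 h; rwa [show q ^ 2 - (q ^ 2 - 1) = 1 by omega] at this)
  have nD : ¬ p ∣ q ^ 2 + q + 1 := fun h => h1 (by
    simpa using Nat.dvd_sub h (Nat.dvd_add hq2 hpq))
  have nE : ¬ p ∣ q ^ 2 - q + 1 := fun h => h1 (by
    have := Nat.dvd_sub h (Nat.dvd_sub hq2 hpq); rwa [Nat.add_sub_cancel_left] at this)
  -- a number prime to `p` that divides a power of `p` is one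
  have hone : ∀ x, ¬ p ∣ x → x ∣ p ^ 2 → x = 1 := fun x hx h =>
    Nat.Coprime.eq_one_of_dvd ((hp.coprime_iff_not_dvd.2 hx).pow_left 2).symm h
  have hsmall : ∀ x y, ¬ p ∣ x → 0 < y → y < x → ¬ x ∣ p * y := fun x y hx hy hlt h => by
    have := Nat.le_of_dvd hy (((hp.coprime_iff_not_dvd.2 hx).symm).dvd_of_dvd_mul_left h)
    omega
  have hclose : ∀ x y : ℕ, 0 < y → y < 2 * x → x ∣ y → x = y := fun x y hy hlt h => by
    obtain ⟨c, rfl⟩ := h
    rcases c with _ | _ | c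
    · simp at hy
    · omega
    · nlinarith
  refine ⟨fun n hn => ?_, fun x hx y hy h => ?_⟩
  · rcases mem_fiveExp hn with rfl | rfl | rfl | rfl | rfl
    · exact ⟨fun h => nA (Nat.dvd_of_mul_dvd_mul_left hp.pos (by rwa [pow_two] at h)),
        fun h => by have := hone _ nA ((dvd_mul_left _ p).trans h); omega⟩
    · exact ⟨fun h => nB (Nat.dvd_of_mul_dvd_mul_left hp.pos (by rwa [pow_two] at h)),
        fun h => by have := hone _ nB ((dvd_mul_left _ p).trans h); omega⟩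
    · exact ⟨fun h => nC ((dvd_pow_self p two_ne_zero).trans h),
        fun h => by have := hone _ nC h; omega⟩
    · exact ⟨fun h => nD ((dvd_pow_self p two_ne_zero).trans h),
        fun h => by have := hone _ nD h; omega⟩
    · exact ⟨fun h => nE ((dvd_pow_self p two_ne_zero).trans h),
        fun h => by have := hone _ nE h; omega⟩
  · have hAB : ¬ q + 1 ∣ q - 1 := fun h => by have := Nat.le_of_dvd (by omega) h; omega
    have hBA : ¬ q - 1 ∣ q + 1 := fun h => by
      have := Nat.dvd_sub h (dvd_refl (q - 1))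
      rw [show q + 1 - (q - 1) = 2 by omega] at this
      have := Nat.le_of_dvd two_pos this
      omega
    rcases mem_fiveExp hx with rfl | rfl | rfl | rfl | rfl <;>
      rcases mem_fiveExp hy with rfl | rfl | rfl | rfl | rfl <;>
      first
        | rfl
        | exact absurd ((dvd_mul_right p _).trans h) (by assumption)
        | exact absurd (Nat.dvd_of_mul_dvd_mul_left hp.pos h) (by assumption)
        | exact absurd h (hsmall _ _ (by assumption) (by omega) (by omega))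
        | exact hclose _ _ (by omega) (by omega) h

/-- The element orders that are maximal under divisibility. -/
theorem maximal_orders [Fintype F] {p : ℕ} [CharP F p] (hp : p.Prime) (hp2 : p ≠ 2) {q : ℕ}
    (hq : Fintype.card F = q) (hq5 : 5 ≤ q) :
    {n : ℕ | n ∈ Set.range (orderOf : ↥(chevG2.group F) → ℕ) ∧
        ∀ m ∈ Set.range (orderOf : ↥(chevG2.group F) → ℕ), n ∣ m → m = n} =
      fiveExp p q ∪ (if p = 3 ∨ p = 5 then ({p ^ 2} : Set ℕ) else ∅) := by
  obtain ⟨k, _, hk⟩ := FiniteField.card F p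
  have hpq : p ∣ q := by rw [← hq, hk]; exact dvd_pow_self p k.2.ne'
  obtain ⟨hT2, hanti⟩ := fiveExp_arith hp hp2 hpq hq5
  obtain ⟨T, hT⟩ : ∃ T, T = fiveExp p q ∪ (if p = 3 ∨ p = 5 then ({p ^ 2} : Set ℕ) else ∅) := ⟨_, rfl⟩
  rw [← hT]
  -- every order divides one of the listed ones
  have hub : ∀ n ∈ Set.range (orderOf : ↥(chevG2.group F) → ℕ), ∃ t ∈ T, n ∣ t := by
    rintro n ⟨x, rfl⟩
    obtain ⟨t, ht, hxt⟩ := chev_g2_cases hp hp2 hq x.2
    exact ⟨t, hT ▸ ht, by rw [← Subgroup.orderOf_coe]; exact orderOf_dvd_of_pow_eq_one hxt⟩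
  -- each of them is attained
  have hatt : ∀ t ∈ T, t ∈ Set.range (orderOf : ↥(chevG2.group F) → ℕ) := by
    intro t ht
    obtain ⟨X, hX, hXo⟩ : ∃ X ∈ chevG2.group F, orderOf X = t := by
      rw [hT] at ht
      rcases ht with ht | ht
      · have hcop : Nat.Coprime p (q + 1) := hp.coprime_iff_not_dvd.2 fun h =>
          hp.not_dvd_one (by simpa using Nat.dvd_sub h hpq)
        rcases mem_fiveExp ht with rfl | rfl | rfl | rfl | rfl
        exacts [(exists_quad_orders hp hq hcop).2, exists_order_minus hp hq,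
          (exists_quad_orders hp hq hcop).1, exists_order_three hq (by omega),
          exists_order_six hq (by omega)]
      · by_cases h35 : p = 3 ∨ p = 5
        · rw [if_pos h35, Set.mem_singleton_iff] at ht
          subst ht
          exact exists_order_sq hp h35 hq fun n hn => (hT2 n hn).1
        · rw [if_neg h35] at ht
          exact absurd ht (Set.notMem_empty _)
    exact ⟨⟨X, hX⟩, by rw [← Subgroup.orderOf_coe]; exact hXo⟩
  -- they do not divide each other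
  have hT' : ∀ x ∈ T, ∀ y ∈ T, x ∣ y → x = y := by
    have hmem : ∀ x ∈ T, x ∈ fiveExp p q ∨ x = p ^ 2 := by
      intro x hx
      rw [hT] at hx
      rcases hx with h | h
      · exact Or.inl h
      · refine Or.inr ?_
        split_ifs at h
        · exact h
        · exact absurd h (Set.notMem_empty _)
    intro x hx y hy h
    rcases hmem x hx with hx' | rfl <;> rcases hmem y hy with hy' | rfl
    exacts [hanti x hx' y hy' h, absurd h (hT2 x hx').2, absurd h (hT2 y hy').1, rfl]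
  ext n
  refine ⟨fun ⟨hn, hmax⟩ => ?_, fun hn => ⟨hatt n hn, fun m hm hnm => ?_⟩⟩
  · obtain ⟨t, ht, hnt⟩ := hub n hn
    exact (hmax t (hatt t ht) hnt) ▸ ht
  · obtain ⟨t, ht, hmt⟩ := hub m hm
    exact Nat.dvd_antisymm ((hT' n hn t ht (hnm.trans hmt)) ▸ hmt) hnm

end CfsgLib.KnownC.G2Oct
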